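import Mathlib
import Cfsg.Prelude.Def_LieTypeChar
import Cfsg.Agent.H597.L2Aut
import Cfsg.Agent.Schreier.ClassPSp
import Cfsg.Agent.Schreier.PSU
import Cfsg.Agent.KFacts.RgdFld.Two_m3
import Cfsg.Agent.Schreier.ClassAll
import Cfsg.Agent.AutOrth.Main
import Cfsg.Agent.S0261
import Cfsg.Agent.TwoFusion.SLTwoFacts
import Cfsg.Agent.OddHalf.LongSL.Abs
import Cfsg.Agent.OddHalf.LongSL.QuatLift
import Cfsg.Agent.OddHalf.NI.Ex.Defs
import Cfsg.Agent.OddHalf.LongSL.Tw_m3
import Cfsg.Agent.OddHalf.LongSL.Orth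
import Cfsg.Agent.Cit.OneComp_m3
import Cfsg.Agent.Cit.FamFb_m3
import Cfsg.Agent.Cit.TPieces
import Cfsg.Agent.OddHalf.Stmts_m3
import Cfsg.Agent.OddHalf.Iface
import Cfsg.Agent.SignalizersComponents.IntrinsicDiag
import Cfsg.Agent.OddHalf.D4.Spor.OfBasic
import Cfsg.Agent.OddHalf.D4.Spor.Transport
import Cfsg.Agent.OddHalf.UT5.KBasic
import Cfsg.Agent.KFacts.TwoSix.Sheet
import Cfsg.Agent.KFacts.He.Classes
import Cfsg.Agent.Held.HeldCardEq_m3
import Cfsg.Agent.KFacts.He.TwoA_m3
import Cfsg.Agent.UGT.I34.OnCode_m3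
import Cfsg.Agent.FastGrp
import Cfsg.Agent.Prune
set_option linter.all false

section
prune_inst 0x7ffdfcfbbbf86ddfffff7e7ffefcdffdf9f8ffffefdff9fbffe4f9ff2fdfeb0eeff5fbafefeb13ff2ef7e21418fc7bd3fdffdeffe36bdc7ffffd5ff45fffff9ffdf7bd1951f69c340fbc2fff83f07f8e7f3fffffffffffffffffffffffffffbeffbfffffffff

-- part: Omega/Lie/Out/Orth
section
prune_inst 0x100400400000000000000020000020300000000000000000000000004800000000000000000000000000000000002002000000420000000a000000000400000000000080080000000006000000000000000000000000000000000000000000000000000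
set_option linter.all false
open scoped Cfsg.Agent.FastGrp

-- part: Omega/Lie/Out/Class
section
/-!
# `OutNil` for the linear, symplectic and unitary groups in characteristic two
-/

set_option autoImplicit false

namespace Cfsg.Agent.Omega.Lie.OutT

open Matrix Cfsg Cfsg.Agent.Schreier.Basic Cfsg.Agent.Schreier.ClassBase

open scoped commutatorElement

/-- Criterion: the commutators of automorphisms lie in `D`, whose elements have inner odd powers. -/
theorem outNil_of_comm {L : Type*} [Group L] (D : Subgroup (MulAut L)) (hD : ∀ x t : MulAut L, ⁅x, t⁆ ∈ D)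
    (h : ∀ φ ∈ D, ∃ k : ℕ, Odd k ∧ φ ^ k ∈ (MulAut.conj : L →* MulAut L).range) : OutNil L := by
  refine outNil_of_index_two ⊤ (Or.inl Subgroup.index_top) D (fun x _ t _ => ?_) fun φ hφ _ => h φ hφ
  have h1 := hD x⁻¹ t
  rw [commutatorElement_def, inv_inv] at h1
  have e : x⁻¹ * (t * x * t⁻¹) = x⁻¹ * t * x * t⁻¹ := by group
  rw [e]
  exact h1

/-- Product criterion. -/
theorem outNil_of_product {K B : Type*} [Group K] [Group B] (L : B →* MulAut K) (N : Subgroup B) (F : Set B)
    (hF : ∀ f ∈ F, ∀ x ∈ N, f * x * f⁻¹ ∈ N) (hc : ∀ f ∈ F, ∀ g ∈ F, f * g = g * f)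
    (hall : ∀ α : MulAut K, ∃ a ∈ N, ∃ f ∈ F, α = L (a * f))
    (hN : ∀ a ∈ N, ∃ k : ℕ, Odd k ∧ L (a ^ k) ∈ (MulAut.conj : K →* MulAut K).range) : OutNil K := by
  refine outNil_of_comm (N.map L) (fun α β => ?_) ?_
  · obtain ⟨a, ha, f, hf, rfl⟩ := hall α
    obtain ⟨b, hb, g, hg, rfl⟩ := hall β
    rw [← map_commutatorElement]
    refine ⟨_, ?_, rfl⟩
    have h2 : ⁅a * f, b * g⁆ = a * (f * b * f⁻¹) * (g * a⁻¹ * g⁻¹) * b⁻¹ := by
      have h3 : f * g * f⁻¹ = g := by rw [hc f hf g hg, mul_inv_cancel_right]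
      calc ⁅a * f, b * g⁆ = a * (f * b * f⁻¹) * (f * g * f⁻¹) * a⁻¹ * g⁻¹ * b⁻¹ := by
            rw [commutatorElement_def]; group
        _ = _ := by rw [h3]; group
    rw [h2]
    exact N.mul_mem (N.mul_mem (N.mul_mem ha (hF f hf b hb)) (hF g hg _ (N.inv_mem ha))) (N.inv_mem hb)
  · rintro _ ⟨a, ha, rfl⟩
    obtain ⟨k, hk, h⟩ := hN a ha
    refine ⟨k, hk, ?_⟩
    rwa [← map_pow]

/-- the order of the multiplicative group of a finite field of characteristic two is odd -/
theorem odd_card_units (F : Type*) [Field F] [Finite F] [CharP F 2] : Odd (Nat.card Fˣ) := by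
  have := Fintype.ofFinite F
  obtain ⟨n, -, hn⟩ := FiniteField.card F 2
  have h1 : Nat.card Fˣ = 2 ^ (n : ℕ) - 1 := by
    rw [Nat.card_units, Nat.card_eq_fintype_card, hn]
  rw [h1, Nat.odd_iff]
  have h2 : 2 ^ (n : ℕ) = 2 * 2 ^ ((n : ℕ) - 1) := by
    rw [← pow_succ', Nat.sub_add_cancel n.pos]
  have h3 : 0 < 2 ^ ((n : ℕ) - 1) := by positivity
  omega

section PSL

open Cfsg.Agent.Schreier.ClassPSL
open Cfsg.Agent.ClassicalGeometry.AutPSL.Root Cfsg.Agent.ClassicalGeometry.AutPSL.Auto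
  Cfsg.Agent.ClassicalGeometry.AutPSL.Main

variable {ι F : Type*} [Fintype ι] [DecidableEq ι] [Field F]

/-- Elements of determinant one induce inner automorphisms. -/
theorem lift_cj_of_det (A : GL ι F) (h : Matrix.GeneralLinearGroup.det A = 1) :
    lift (cj A) ∈ (MulAut.conj : Matrix.ProjectiveSpecialLinearGroup ι F →*
      MulAut (Matrix.ProjectiveSpecialLinearGroup ι F)).range := by
  have hdet : (A : Matrix ι ι F).det = 1 := by
    have h2 := congrArg Units.val h
    rwa [Matrix.GeneralLinearGroup.val_det_apply, Units.val_one] at h2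
  let s : Matrix.SpecialLinearGroup ι F := ⟨_, hdet⟩
  refine ⟨pr s, ?_⟩
  apply MulEquiv.ext
  intro x
  obtain ⟨x, rfl⟩ := pr_surjective x
  rw [lift_pr, MulAut.conj_apply, ← map_inv, ← map_mul, ← map_mul]
  (with_reducible_and_instances congr 1)
  apply Subtype.ext
  rw [coe_cj]
  have hinv : (s⁻¹ : Matrix.SpecialLinearGroup ι F).1 = ((A⁻¹ : GL ι F) : Matrix ι ι F) := by
    have h1 : (s * s⁻¹ : Matrix.SpecialLinearGroup ι F).1 = 1 := by rw [mul_inv_cancel]; rfl
    have h2 : (A : Matrix ι ι F) * (s⁻¹ : Matrix.SpecialLinearGroup ι F).1 = 1 := h1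
    have h3 : ((A⁻¹ : GL ι F) : Matrix ι ι F) * (A : Matrix ι ι F) = 1 := by
      rw [← Units.val_mul, inv_mul_cancel, Units.val_one]
    calc (s⁻¹ : Matrix.SpecialLinearGroup ι F).1
        = (((A⁻¹ : GL ι F) : Matrix ι ι F) * (A : Matrix ι ι F)) *
          (s⁻¹ : Matrix.SpecialLinearGroup ι F).1 := by rw [h3, one_mul]
      _ = _ := by rw [mul_assoc, h2, mul_one]
  change s.1 * x.1 * (s⁻¹ : Matrix.SpecialLinearGroup ι F).1 = _
  rw [hinv]

/-- `PSL n F`, characteristic two. -/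
theorem outNil_PSL {F : Type*} [Field F] [Finite F] [CharP F 2] {n : ℕ} (hn : 2 ≤ n) :
    OutNil (Matrix.ProjectiveSpecialLinearGroup (Fin n) F) := by
  have := Fintype.ofFinite F
  refine outNil_of_product lift cj.range {x | ∃ σ : F ≃+* F, x = fld σ ∨ x = fld σ * itr} ?_ ?_ ?_ ?_
  · rintro f ⟨σ, rfl | rfl⟩ x hx
    · exact cj_norm_fld σ hx
    · have h1 : fld σ * itr * x * (fld σ * itr)⁻¹ = fld σ * (itr * x * itr⁻¹) * (fld σ)⁻¹ := by
        group
      rw [h1]
      exact cj_norm_fld σ (cj_norm_itr hx)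
  · have hff := fun σ τ : F ≃+* F => fld_comm (ι := Fin n) σ τ
    have hif := fun σ : F ≃+* F => itr_mul_fld (ι := Fin n) σ
    rintro f ⟨σ, rfl | rfl⟩ g ⟨τ, rfl | rfl⟩
    · exact hff σ τ
    · rw [← mul_assoc, hff, mul_assoc, mul_assoc, hif]
    · rw [mul_assoc, hif, ← mul_assoc, hff, mul_assoc]
    · rw [mul_assoc, ← mul_assoc itr, hif, mul_assoc, ← mul_assoc, hff, mul_assoc (fld τ) itr,
        ← mul_assoc itr, hif]
      simp only [mul_assoc]
  · intro α
    rcases Nat.lt_or_ge n 3 with h | h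
    · obtain rfl : n = 2 := by omega
      obtain ⟨A, σ, hA⟩ := surj_two 2 α
      exact ⟨_, ⟨A, rfl⟩, _, ⟨σ, Or.inl rfl⟩, hA⟩
    · rcases surj_three 2 h α with ⟨A, σ, hA⟩ | ⟨A, σ, hA⟩
      · exact ⟨_, ⟨A, rfl⟩, _, ⟨σ, Or.inl rfl⟩, hA⟩
      · exact ⟨_, ⟨A, rfl⟩, _, ⟨σ, Or.inr rfl⟩, by rw [hA, mul_assoc]⟩
  · rintro _ ⟨A, rfl⟩
    refine ⟨Nat.card Fˣ, odd_card_units F, ?_⟩
    rw [← map_pow]
    apply lift_cj_of_det
    rw [map_pow]
    exact pow_card_eq_one'

end PSL

section PSp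

open Cfsg.Agent.Schreier.ClassPSp
open Cfsg.Agent.ClassicalGeometry.SympAutSemi

variable {m : ℕ} {F : Type*} [Field F]

theorem isSemi_pow {g : Equiv.Perm (Fin m ⊕ Fin m → F)} {l : F} (hg : IsSemi g (RingEquiv.refl F) l) (k : ℕ) :
    IsSemi (g ^ k) (RingEquiv.refl F) (l ^ k) := by
  induction k with
  | zero =>
    rw [pow_zero, pow_zero]
    exact ⟨fun _ _ => rfl, fun _ _ => rfl, fun _ _ => by rw [one_mul]; rfl⟩
  | succ k ih =>
    rw [pow_succ, pow_succ]
    exact ih.mul hg

/-- `PSp m F`, characteristic two. -/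
theorem outNil_PSp [Finite F] [CharP F 2] (hm : 2 ≤ m) (h22 : m = 2 → 3 ≤ Nat.card F) : OutNil (PSp m F) := by
  have := Fintype.ofFinite F
  have hB : ∀ α : MulAut (PSp m F), Cfsg.Agent.ClassicalGeometry.AutPSpCount.Pres α →
      α ∈ (Psi m F).range := by
    intro α hα
    obtain ⟨g, hg⟩ := Cfsg.Agent.ClassicalGeometry.SympAutExists.exists_semi hm α hα
    exact ⟨g, hg⟩
  have hidx : (Psi m F).range.index = 1 ∨ (Psi m F).range.index = 2 := by
    by_cases hcase : m = 2 ∧ (2 : F) = 0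
    · obtain ⟨rfl, h2⟩ := hcase
      have ht : ∃ t : F, t ≠ 0 ∧ t ≠ 1 := by
        by_contra hcon
        push Not at hcon
        have h3 : Fintype.card F ≤ 2 := by
          classical
          have : (Finset.univ : Finset F) ⊆ {0, 1} := by
            intro t _
            by_cases h0 : t = 0
            · simp [h0]
            · simp [hcon t h0]
          exact (Finset.card_le_card this).trans (Finset.card_le_two)
        have h4 := h22 rfl
        rw [Nat.card_eq_fintype_card] at h4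
        omega
      rw [Cfsg.Agent.ClassicalGeometry.SympAutTwo.index_two ht hB]
      exact Or.inr rfl
    · have htop : (Psi m F).range = ⊤ := by
        rw [eq_top_iff]
        intro α _
        apply hB
        refine Cfsg.Agent.ClassicalGeometry.SympAutOddA.recog hm ?_ α
        by_cases hm2 : m = 2
        · right
          intro h2
          exact hcase ⟨hm2, h2⟩
        · left; omega
      rw [htop, Subgroup.index_top]
      exact Or.inl rfl
  refine outNil_of_index_two (Psi m F).range hidx ((sim m F).map (Psi m F)) ?_ ?_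
  · rintro _ ⟨g, rfl⟩ _ ⟨h, rfl⟩
    refine ⟨⁅g⁻¹, h⁆, derived_one ?_, ?_⟩
    · rw [derivedSeries_succ]
      exact Subgroup.commutator_mem_commutator (Subgroup.mem_top _) (Subgroup.mem_top _)
    · simp only [commutatorElement_def, map_mul, map_inv, inv_inv, mul_assoc]
  · rintro _ ⟨g, ⟨l, hl, hg⟩, rfl⟩ -
    refine ⟨Nat.card Fˣ, odd_card_units F, ?_⟩
    rw [← map_pow]
    apply Psi_isom
    have h1 := isSemi_pow hg (Nat.card Fˣ)
    have h2 : l ^ Nat.card Fˣ = 1 := by
      have h3 : (Units.mk0 l hl) ^ Nat.card Fˣ = 1 := pow_card_eq_one'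
      have h4 := congrArg Units.val h3
      rwa [Units.val_pow_eq_pow_val, Units.val_mk0, Units.val_one] at h4
    rw [h2] at h1
    exact h1

end PSp

section PSU

open Cfsg.Agent.Schreier.PSU Cfsg.Agent.ClassicalGeometry.PSUAutCount Cfsg.Agent.LieClassical.HermSiegel
open Cfsg.Agent.ClassicalGeometry.UnitAutBasic (pr pr_surjective)

/-- Criterion with two homomorphisms. -/
theorem outNil_of_two {K A B : Type*} [Group K] [Group A] [Group B] (f₁ : A →* MulAut K) (f₂ : B →* MulAut K)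
    (hB : ∀ b b' : B, b * b' = b' * b) (h : ∀ α : MulAut K, ∃ a b, α = f₁ a * f₂ b)
    (hn : ∀ a b, ∃ a', f₂ b * f₁ a * (f₂ b)⁻¹ = f₁ a')
    (hi : ∀ a : A, ∃ k : ℕ, Odd k ∧ f₁ (a ^ k) ∈ (MulAut.conj : K →* MulAut K).range) : OutNil K := by
  have hN : (f₁.range).Normal := by
    constructor
    rintro _ ⟨a, rfl⟩ α
    obtain ⟨a₁, b, rfl⟩ := h α
    obtain ⟨a', ha'⟩ := hn a b
    refine ⟨a₁ * a' * a₁⁻¹, ?_⟩
    rw [map_mul, map_mul, map_inv, ← ha']
    group
  -- the quotient is commutative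
  have hcomm : ∀ x y : MulAut K ⧸ f₁.range, x * y = y * x := by
    intro x y
    obtain ⟨α, rfl⟩ := QuotientGroup.mk_surjective x
    obtain ⟨β, rfl⟩ := QuotientGroup.mk_surjective y
    obtain ⟨a, b, rfl⟩ := h α
    obtain ⟨a', b', rfl⟩ := h β
    have h1 : ∀ a, (QuotientGroup.mk (f₁ a) : MulAut K ⧸ f₁.range) = 1 := fun a =>
      (QuotientGroup.eq_one_iff _).2 ⟨a, rfl⟩
    rw [QuotientGroup.mk_mul, QuotientGroup.mk_mul, h1, h1, one_mul, one_mul, ← QuotientGroup.mk_mul,
      ← QuotientGroup.mk_mul, ← map_mul, ← map_mul, hB]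
  refine outNil_of_comm f₁.range (fun x t => ?_) ?_
  · rw [← QuotientGroup.eq_one_iff]
    change QuotientGroup.mk' f₁.range ⁅x, t⁆ = 1
    rw [map_commutatorElement, commutatorElement_eq_one_iff_mul_comm]
    exact hcomm _ _
  · rintro _ ⟨a, rfl⟩
    obtain ⟨k, hk, h⟩ := hi a
    exact ⟨k, hk, by rwa [← map_pow]⟩

variable {F : Type*} [Field F] {q n : ℕ}

theorem gm_pow (A : GU n F q) (k : ℕ) : gm (A ^ k) = gm A ^ k := by
  induction k with
  | zero => rw [pow_zero, pow_zero, gm_one]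
  | succ k ih => rw [pow_succ, pow_succ, gm_mul, ih]

/-- `PSU n q`, characteristic two. -/
theorem outNil_PSU [Fintype F] [CharP F 2] (hF : Fintype.card F = q ^ 2) (hn : 3 ≤ n)
    (h32 : ¬ (n = 3 ∧ q = 2)) : OutNil (PSU n F q) := by
  have hc : IsCyclic (F ≃+* F) := LieRecognition.FieldSemilinear.isCyclic_ringAut F
  let _ : CommGroup (F ≃+* F) := IsCyclic.commGroup
  refine outNil_of_two (f₁ (F := F) (q := q) (n := n)) f₂ (fun b b' => mul_comm b b') ?_
    (fun a b => ⟨_, conj_field b a⟩) ?_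
  · intro α
    obtain ⟨A, ρ, h⟩ := ClassicalGeometry.PSUAutMain.exists_toAut hF hn h32 α
    exact ⟨A, ρ, h.trans (toAut_eq A ρ)⟩
  · intro A
    refine ⟨Nat.card Fˣ, odd_card_units F, ?_⟩
    have hdet : (gm (A ^ Nat.card Fˣ)).det = 1 := by
      have h1 : (gm A).det ≠ 0 := by
        have h2 : (gm A).det * (gm A⁻¹).det = 1 := by rw [← det_mul, gm_mul_inv, det_one]
        exact left_ne_zero_of_mul_eq_one h2
      rw [gm_pow, det_pow]
      have h3 : (Units.mk0 _ h1) ^ Nat.card Fˣ = 1 := pow_card_eq_one'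
      have h4 := congrArg Units.val h3
      rwa [Units.val_pow_eq_pow_val, Units.val_mk0, Units.val_one] at h4
    let g : SU n F q := mkSU (gm (A ^ Nat.card Fˣ)) hdet (fun u v => herm_gm _ u v)
    exact ⟨pr n F q g, (f₁_eq_conj (A ^ Nat.card Fˣ) g rfl).symm⟩

end PSU

/-! ### The rows -/

theorem outNil_psl {L : Type*} [Group L] (h : IsPSLChar 2 L) : OutNil L := by
  obtain ⟨F, _, _, _, n, hn, -, ⟨e⟩⟩ := h
  exact (outNil_PSL hn).of_equiv e.symm

theorem outNil_psp {L : Type*} [Group L] (h : IsPSpChar 2 L) : OutNil L := by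
  obtain ⟨F, _, _, _, m, hm, h2, ⟨e⟩⟩ := h
  exact (outNil_PSp hm fun h3 => by rw [Nat.card_eq_fintype_card]; exact h2 h3).of_equiv e.symm

theorem outNil_psu {L : Type*} [Group L] (h : IsPSUChar 2 L) : OutNil L := by
  obtain ⟨F, _, _, _, n, q, hF, hn, h32, ⟨e⟩⟩ := h
  exact (outNil_PSU hF hn h32).of_equiv e.symm

end Cfsg.Agent.Omega.Lie.OutT
end

-- part: Omega/Lie/Out/Orth
section
/-!
# `OutNil` for the orthogonal groups in characteristic two
-/

set_option autoImplicit false

namespace Cfsg.Agent.Omega.Lie.OutT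

open Cfsg Cfsg.Agent.Schreier.Basic Cfsg.Agent.Schreier.ClassBase Cfsg.Agent.Schreier.ClassPOmega
open QuadraticMap Cfsg.Agent.LieClassical.OrthCore Cfsg.Agent.LieClassical.OrthTrans
  Cfsg.Agent.LieClassical.OrthSimple Cfsg.Agent.LieClassical.OrthForms
  Cfsg.Agent.ClassicalGeometry.OrthSemi Cfsg.Agent.ClassicalGeometry.OrthSemiForms

open scoped commutatorElement

section general

variable {F V : Type*} [Field F] [AddCommGroup V] [Module F V] {Q : QuadraticForm F V}

/-- In characteristic two `E Q` has index at most two in `O Q`. -/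
theorem O_dich [Finite F] [CharP F 2] [FiniteDimensional F V] (hG : Good Q) {a : V} (ha : Q a ≠ 0)
    {g : V ≃ₗ[F] V} (hg : g ∈ O Q) : g ∈ E Q ∨ refl Q a ha * g ∈ E Q := by
  set r := refl Q a ha with hr
  have hrO : r ∈ O Q := refl_mem_O ha
  have hri : r⁻¹ = r := refl_inv ha
  rw [O_eq_closure hG.nondeg] at hg
  induction hg using Subgroup.closure_induction with
  | mem x hx =>
    rcases hx with ⟨v, hv, rfl⟩ | ⟨u, w, hu, hw, rfl⟩
    · right
      have hsq : IsSquare (Q a * (Q v)⁻¹) := FiniteField.isSquare_of_char_two (ringChar.eq F 2) _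
      obtain ⟨c, hc⟩ := hsq
      have hc0 : c ≠ 0 := by
        rintro rfl
        rw [mul_zero] at hc
        exact (mul_ne_zero ha (inv_ne_zero hv)) hc
      have hcv : Q (c • v) = Q a := by
        rw [QuadraticMap.map_smul, ← hc, smul_eq_mul, mul_assoc, inv_mul_cancel₀ hv, mul_one]
      have hcv0 : Q (c • v) ≠ 0 := by rw [hcv]; exact ha
      rw [← refl_smul hv hc0 hcv0]
      exact hG.refl_mul_refl_mem hcv0 ha hcv
    · exact Or.inl (siegel_mem_E hu hw)
  | one => exact Or.inl (one_mem _)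
  | mul x y hx' hy' hx hy =>
    rcases hx with hx | hx <;> rcases hy with hy | hy
    · exact Or.inl ((E Q).mul_mem hx hy)
    · right
      have e : r * (x * y) = (r * x * r⁻¹) * (r * y) := by group
      rw [e]
      exact (E Q).mul_mem (conj_mem_E hrO hx) hy
    · right
      have e : r * (x * y) = (r * x) * y := by group
      rw [e]
      exact (E Q).mul_mem hx hy
    · left
      have e : x * y = (r * (r * x) * r⁻¹) * (r * y) := by
        have h1 : r * r = 1 := by
          nth_rewrite 1 [← hri]; exact inv_mul_cancel r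
        calc x * y = (r * r) * x * y := by rw [h1, one_mul]
          _ = _ := by group
      rw [e]
      exact (E Q).mul_mem (conj_mem_E hrO hx) hy
  | inv x hx' hx =>
    rcases hx with hx | hx
    · exact Or.inl ((E Q).inv_mem hx)
    · right
      have e : r * x⁻¹ = r * (r * x)⁻¹ * r⁻¹ := by
        rw [mul_inv_rev, hri]
        have h1 : r * r = 1 := by
          nth_rewrite 1 [← hri]; exact inv_mul_cancel r
        calc r * x⁻¹ = r * x⁻¹ * (r * r) := by rw [h1, mul_one]
          _ = _ := by group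
      rw [e]
      exact conj_mem_E hrO ((E Q).inv_mem hx)

theorem isSS_pow {g : Equiv.Perm V} {l : F} (hg : IsSS Q (RingEquiv.refl F) l g) (k : ℕ) :
    IsSS Q (RingEquiv.refl F) (l ^ k) (g ^ k) := by
  induction k with
  | zero =>
    rw [pow_zero, pow_zero]
    exact ⟨one_ne_zero, fun _ _ => rfl, fun _ _ => rfl, fun _ => by rw [one_mul]; rfl⟩
  | succ k ih =>
    rw [pow_succ, pow_succ]
    exact ih.mul hg

/-- An odd power of a similitude is an isometry. -/
theorem pow_isom [Finite F] {g : Gam Q} (hg : g ∈ sim Q) : g ^ Nat.card Fˣ ∈ isom Q := by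
  obtain ⟨l, hl⟩ := hg
  have h1 := isSS_pow hl (Nat.card Fˣ)
  have h2 : l ^ Nat.card Fˣ = 1 := by
    have h3 : (Units.mk0 l hl.ne) ^ Nat.card Fˣ = 1 := pow_card_eq_one'
    have h4 := congrArg Units.val h3
    rwa [Units.val_pow_eq_pow_val, Units.val_mk0, Units.val_one] at h4
  rw [h2] at h1
  exact h1

theorem mem_isom_of_cfg [Finite F] [CharP F 2] {X T : Subgroup (MulAut (↥(E Q) ⧸ Subgroup.center ↥(E Q)))}
    (c : Cfg X T) {x : MulAut (↥(E Q) ⧸ Subgroup.center ↥(E Q))} (hx : x ∈ X) {g : Gam Q} (hg : g ∈ sim Q)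
    (h : Psi Q g = x) : ∃ g' ∈ isom Q, Psi Q g' = x := by
  refine ⟨g ^ Nat.card Fˣ, pow_isom hg, ?_⟩
  obtain ⟨r, hr⟩ := odd_card_units F
  simp_rw [map_pow, h, hr, pow_succ, pow_mul, pow_two, c.sq x hx, one_pow, one_mul]

/-- Two isometries which do not induce inner automorphisms. -/
theorem mul_inner [Finite F] [CharP F 2] [FiniteDimensional F V] (hG : Good Q) {g h : Gam Q} (hg : g ∈ isom Q)
    (hh : h ∈ isom Q) (hgi : Psi Q g ∉ (MulAut.conj : ↥(E Q) ⧸ Subgroup.center ↥(E Q) →* _).range)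
    (hhi : Psi Q h ∉ (MulAut.conj : ↥(E Q) ⧸ Subgroup.center ↥(E Q) →* _).range) :
    Psi Q g * Psi Q h ∈ (MulAut.conj : ↥(E Q) ⧸ Subgroup.center ↥(E Q) →* _).range := by
  (have h_ob := exists_lin hg
   revert h_ob; rintro (⟨m, hm, hgm⟩))
  (have h_ob := exists_lin hh
   revert h_ob; rintro (⟨n, hn, hhn⟩))
  -- a nonsingular vector
  (have h_ob : ∃ a, Q a ≠ 0 := by
    obtain ⟨x, y, hxy⟩ := hG.exists_hyp
    refine ⟨x + y, ?_⟩
    rw [Q_add, hxy.left, hxy.right, hxy.pair]
    simp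
   revert h_ob; rintro (⟨a, ha⟩))
  have h1 : refl Q a ha * m ∈ E Q := (O_dich hG ha hm).resolve_left fun h => hgi (Psi_E h hgm)
  have h2 : refl Q a ha * n ∈ E Q := (O_dich hG ha hn).resolve_left fun h => hhi (Psi_E h hhn)
  have h3 : m * n ∈ E Q := by
    rcases O_dich hG ha ((O Q).mul_mem hm hn) with h | h
    · exact h
    · -- `m = r (r m)`, so `m * n = r (r m) r⁻¹ (r n)`
      have hri : (refl Q a ha)⁻¹ = refl Q a ha := refl_inv ha
      have h0 : refl Q a ha * refl Q a ha = 1 := by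
        nth_rewrite 1 [← hri]; exact inv_mul_cancel _
      have e : m * n = (refl Q a ha * (refl Q a ha * m) * (refl Q a ha)⁻¹) * (refl Q a ha * n) := by
        calc m * n = (refl Q a ha * refl Q a ha) * m * n := by rw [h0, one_mul]
          _ = _ := by group
      rw [e]
      exact (E Q).mul_mem (conj_mem_E (refl_mem_O ha) h1) h2
  rw [← map_mul]
  refine Psi_E h3 fun v => ?_
  change g.1 (h.1 v) = m (n v)
  rw [hgm, hhn]

/-- all automorphisms are induced by semisimilitudes -/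
theorem outNil_P [Finite F] [CharP F 2] [FiniteDimensional F V] (hG : Good Q)
    (hs : Function.Surjective (Psi Q)) : OutNil (↥(E Q) ⧸ Subgroup.center ↥(E Q)) := by
  rw [outNil_iff]
  intro X T c
  have h1 : X ≤ (sim Q).map (Psi Q) := c.le_of fun x hx t ht => by
    (have h_ob := hs x
     revert h_ob; rintro (⟨g, rfl⟩))
    (have h_ob := hs t
     revert h_ob; rintro (⟨h, rfl⟩))
    refine ⟨⁅g⁻¹, h⁆, derived_one ?_, ?_⟩
    · rw [derivedSeries_succ]
      exact Subgroup.commutator_mem_commutator (Subgroup.mem_top _) (Subgroup.mem_top _)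
    · simp only [commutatorElement_def, map_mul, map_inv, inv_inv, mul_assoc]
  have hn := conj_range_normal (↥(E Q) ⧸ Subgroup.center ↥(E Q))
  refine c.le_of_two' fun x hx y hy hxN hyN => ?_
  (have h_ob := h1 hx
   revert h_ob; rintro (⟨g, hg, hgx⟩))
  (have h_ob := h1 hy
   revert h_ob; rintro (⟨h, hh, hhy⟩))
  (have h_ob := mem_isom_of_cfg c hx hg hgx
   revert h_ob; rintro (⟨g, hg, rfl⟩))
  (have h_ob := mem_isom_of_cfg c hy hh hhy
   revert h_ob; rintro (⟨h, hh, rfl⟩))
  exact mul_inner hG hg hh hxN hyN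

end general

variable {F : Type*} [Field F] [Finite F] [CharP F 2]

/-- plus type, rank at least five -/
theorem outNil_plus {m : ℕ} (hm : 5 ≤ m) : OutNil (Cfsg.POmega F (Cfsg.quadFormPlus m F)) := by
  have := Fintype.ofFinite F
  have hG := good_plus (F := F) (m := m) (by omega)
  have h1 := outNil_P hG (Cfsg.Agent.AutOrth.Final.surjective_plus (by omega))
  have h3 := OutNil.of_equiv (pomegaEquiv hG).symm h1
  rwa [coe_plusForm] at h3

/-- minus type -/
theorem outNil_minus {m : ℕ} (hm : 4 ≤ m) (a b : F)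
    (hab : ∀ z₁ z₂ : F, z₁ ^ 2 + a * z₁ * z₂ + b * z₂ ^ 2 = 0 → z₁ = 0 ∧ z₂ = 0) :
    OutNil (Cfsg.POmega F (Cfsg.quadFormMinus (m - 1) F a b)) := by
  have := Fintype.ofFinite F
  have hG := good_minus (F := F) (m := m - 1) (by omega) a b hab
  have h1 := outNil_P hG (Cfsg.Agent.AutOrth.Final.surjective_minus (by omega) hab)
  have h3 := OutNil.of_equiv (pomegaEquiv hG).symm h1
  rwa [coe_minusForm] at h3

/-! ### `PΩ₈⁺` -/

section D4

open Cfsg.Agent.ClassicalGeometry.OrthAut1 Cfsg.Agent.LieClassical.QuadForms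
  Cfsg.Agent.ClassicalGeometry.TrialityOct Cfsg.Agent.ClassicalGeometry.TrialitySpaces
  Cfsg.Agent.ClassicalGeometry.TrialityIndex Cfsg.Agent.AutOrth.Main

/-- the field automorphism of a semisimilitude is unique -/
theorem isSS_unique {F V : Type*} [Field F] [AddCommGroup V] [Module F V] {Q : QuadraticForm F V}
    {σ τ : F ≃+* F} {c d : F} {M : Equiv.Perm V} (h : IsSS Q σ c M) (h' : IsSS Q τ d M) {v : V} (hv : v ≠ 0) :
    σ = τ := by
  have hMv : M v ≠ 0 := by
    intro h0
    apply hv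
    apply M.injective
    rw [h0, h.map_zero]
  ext a
  have h1 : σ a • M v = τ a • M v := by rw [← h.smul, ← h'.smul]
  exact smul_left_injective F hMv h1

/-- an isometry acts on the stabilisers -/
theorem map_stab_isom {F V : Type*} [Field F] [AddCommGroup V] [Module F V] {Q : QuadraticForm F V} (hG : Good Q)
    {g : Gam Q} {m : V ≃ₗ[F] V} (hgm : ∀ v, g.1 v = m v) (W : Submodule F V) :
    (stab hG W).map (Psi Q g).toMonoidHom = stab hG (mapHom m W) := by
  have key : ∀ k : ↥(E Q), Psi Q g (k : P Q) ∈ stab hG (mapHom m W) ↔ (k : P Q) ∈ stab hG W := by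
    intro k
    rw [Psi_mk, mem_stab, mem_stab, pact_mk, pact_mk, coe_conjE]
    have e : conjLin g k.1 = m * k.1 * m⁻¹ := by
      apply LinearEquiv.ext
      intro v
      obtain ⟨w, rfl⟩ := g.1.surjective v
      rw [conjLin_apply', hgm, hgm]
      change m (k.1 w) = m (k.1 (m.symm (m w)))
      rw [LinearEquiv.symm_apply_apply]
    rw [e, map_mul, map_mul, map_inv, Equiv.Perm.mul_apply, Equiv.Perm.mul_apply]
    have e2 : (mapHom m)⁻¹ (mapHom m W) = W := (mapHom m).symm_apply_apply W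
    rw [e2]
    exact (mapHom m).injective.eq_iff
  ext q
  rw [Subgroup.mem_map]
  constructor
  · rintro ⟨r, hr, rfl⟩
    (have h_ob := QuotientGroup.mk_surjective r
     revert h_ob; rintro (⟨k, rfl⟩))
    exact (key k).2 hr
  · intro hq
    refine ⟨(Psi Q g)⁻¹ q, ?_, MulAut.apply_inv_self _ (Psi Q g) q⟩
    (have h_ob := QuotientGroup.mk_surjective ((Psi Q g)⁻¹ q)
     revert h_ob; rintro (⟨k, hk⟩))
    rw [← hk, ← key, hk, MulAut.apply_inv_self]
    exact hq

/-- the form -/
local notation "Q8" => (LieClassical.QuadForms.plusForm 4 F)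

omit [CharP F 2] [Finite F] in
theorem q8_eq : (LieClassical.OrthForms.plusForm 4 F) = Q8 := plusForm_eq 4

theorem outNil_D4_P : OutNil (P Q8) := by
  have := Fintype.ofFinite F
  have hG : Good Q8 := Cfsg.Agent.AutOrth.Main.good_plus (by norm_num)
  have h3 : (Psi Q8).range.index = 3 := by
    rw [← plusForm_eq]
    exact Cfsg.Agent.AutOrth.Final.index_plus_four
  set! R := (Psi Q8).range with hR
  have hn := conj_range_normal (P Q8)
  set In := (MulAut.conj : P Q8 →* MulAut (P Q8)).range with hIn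
  have hInR : In ≤ R := by
    rintro _ ⟨p, rfl⟩
    obtain ⟨k, rfl⟩ := QuotientGroup.mk_surjective p
    have hk := mem_O.1 (E_le_O k.2)
    refine ⟨⟨k.1.toEquiv, RingEquiv.refl F, 1, ⟨one_ne_zero, fun u v => k.1.map_add u v, fun a v => k.1.map_smul a v,
      fun v => by rw [one_mul]; exact hk v⟩⟩, ?_⟩
    apply MulEquiv.ext
    intro x
    (have h_ob := QuotientGroup.mk_surjective x
     revert h_ob; rintro (⟨l, rfl⟩))
    simp only [Psi_mk, MulAut.conj_apply, ← QuotientGroup.mk_inv, ← QuotientGroup.mk_mul, ← QuotientGroup.mk_mul]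
    congr 1
  -- the kernel of the action on the cosets
  have hcore : In ≤ R.normalCore := Subgroup.normal_le_normalCore.2 hInR
  -- a triality automorphism
  obtain ⟨τ, hτ⟩ := Cfsg.Agent.ClassicalGeometry.Triality.exists_tau_xO hG
  -- reflections are not in the core
  have hrefl : ∀ (g : Gam Q8) (a : Fin 4 ⊕ Fin 4 → F) (ha : Q8 a ≠ 0),
      (∀ v, g.1 v = LieClassical.OrthCore.refl Q8 a ha v) → Psi Q8 g ∉ R.normalCore := by
    intro g a ha hg hcon
    obtain ⟨x, hx0, hx⟩ := hG.sing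
    -- conjugate by `τ`
    have h1 : τ * Psi Q8 g * τ⁻¹ ∈ R :=
      Subgroup.normalCore_le R ((inferInstance : (R.normalCore).Normal).conj_mem _ hcon τ)
    have h2 := Cfsg.Agent.AutOrth.Final.pt_of_mem_range hG h1 x hx hx0
    obtain ⟨y, hy, hy0, h4⟩ := h2
    -- compute the left side
    have h5 : (stab hG (Submodule.span F {x})).map (τ⁻¹).toMonoidHom = stab hG (leftSp x) := by
      have h6 := congrArg (fun K : Subgroup (P Q8) => K.map (τ⁻¹).toMonoidHom) (hτ x hx hx0)
      simp only [map_mulAut_inv] at h6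
      exact h6.symm
    simp only [map_mulAut_mul, map_mulAut_mul, h5, map_stab_isom hG hg, mapHom_apply] at h4
    obtain ⟨z, hz, hz0, h7⟩ := IsLeft.refl ha (W := leftSp x) ⟨x, hx, hx0, rfl⟩
    rw [h7] at h4
    have h8 : (stab hG (rightSp z)).map τ.toMonoidHom = (stab hG (leftSp y)).map τ.toMonoidHom :=
      h4.trans (hτ y hy hy0).symm
    have h9 := congrArg (fun K : Subgroup (P Q8) => K.map (τ⁻¹).toMonoidHom) h8
    simp only [map_mulAut_inv] at h9
    have hl0 : leftSp y ≠ ⊥ := by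
      intro h
      have := self_mem_leftSp y
      rw [h, Submodule.mem_bot] at this
      exact hy0 this
    have hr0 : rightSp z ≠ ⊥ := by
      intro h
      have := self_mem_rightSp z
      rw [h, Submodule.mem_bot] at this
      exact hz0 this
    exact leftSp_ne_rightSp hy hy0 hz hz0
      (stab_injective hG (leftSp_sing hy) (rightSp_sing hz) hl0 hr0 h9.symm)
  obtain ⟨a, ha⟩ : ∃ a, Q8 a ≠ 0 := by
    obtain ⟨x, y, hxy⟩ := hG.exists_hyp
    refine ⟨x + y, ?_⟩
    rw [Q_add, hxy.left, hxy.right, hxy.pair]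
    simp
  -- an isometry in the core is inner
  have hiso : ∀ g ∈ isom Q8, Psi Q8 g ∈ R.normalCore → Psi Q8 g ∈ In := by
    intro g hg hgc
    by_contra hgi
    obtain ⟨m, hm, hgm⟩ := exists_lin hg
    set! r := LieClassical.OrthCore.refl Q8 a ha with hr
    have h1 : r * m ∈ E Q8 := (O_dich hG ha hm).resolve_left fun h => hgi (Psi_E h hgm)
    -- the reflection as an element of `Gam`
    let s : Gam Q8 := ⟨r.toEquiv, RingEquiv.refl F, 1, ⟨one_ne_zero, fun u v => r.map_add u v,
      fun a v => r.map_smul a v, fun v => by rw [one_mul]; exact mem_O.1 (refl_mem_O ha) v⟩⟩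
    have h2 : Psi Q8 (s * g) ∈ In := Psi_E h1 fun v => by
      change r (g.1 v) = r (m v)
      rw [hgm]
    rw [map_mul] at h2
    have h4 : Psi Q8 s ∈ R.normalCore := by
      have := R.normalCore.mul_mem (hcore h2) (R.normalCore.inv_mem hgc)
      (simp only [mul_inv_cancel_right] at this; assumption)
    exact hrefl s a ha (fun v => rfl) h4
  have hcyc : IsCyclic (F ≃+* F) := LieRecognition.FieldSemilinear.isCyclic_ringAut F
  rw [outNil_iff]
  intro X T c
  have hXc : X ≤ R.normalCore := by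
    intro x hx
    rw [Subgroup.normalCore_eq_ker, MonoidHom.mem_ker]
    have hfin : Finite (MulAut (P Q8) ⧸ R) := Nat.finite_of_card_ne_zero (by
      change R.index ≠ 0
      rw [h3]; norm_num)
    exact c.apply_perm_eq_one (by change R.index ≤ 3; exact h3.le) _ hx
  -- elements of `X` with trivial field part are inner
  have hsim : ∀ g ∈ sim Q8, Psi Q8 g ∈ X → Psi Q8 g ∈ In := by
    intro g hg hgX
    (have h_ob := mem_isom_of_cfg c hgX hg rfl
     revert h_ob; rintro (⟨g', hg', h'⟩))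
    rw [← h']
    exact hiso g' hg' (by simp only [h']; exact hXc hgX)
  refine c.le_of_two' fun x hx y hy hxN hyN => ?_
  obtain ⟨g, rfl⟩ := Subgroup.normalCore_le R (hXc hx)
  (have h_ob := Subgroup.normalCore_le R (hXc hy)
   revert h_ob; rintro (⟨k, rfl⟩))
  (have h_ob := g.2
   revert h_ob; rintro (⟨σ, l, hg⟩))
  (have h_ob := k.2
   revert h_ob; rintro (⟨ρ, l', hk⟩))
  (have h_ob := hG.sing; revert h_ob; rintro (⟨v, hv0, -⟩))
  -- the field parts are involutions
  have hinv : ∀ (g : Gam Q8) (σ : F ≃+* F) (l : F), IsSS Q8 σ l g.1 →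
      Psi Q8 g ∈ X → σ * σ = 1 := by
    intro g σ l hg hgX
    have h1 : g * g ∈ (Psi Q8).ker := by
      simp only [MonoidHom.mem_ker, map_mul, c.sq _ hgX]
    rw [ker_Psi hG] at h1
    obtain ⟨u, hu⟩ := h1
    have h2 := hg.mul hg
    obtain ⟨σ', l'', h4⟩ := (scal Q8 u).2
    have h6 : IsSS Q8 (RingEquiv.refl F) ((u : F) ^ 2) (scal Q8 u).1 :=
      ⟨pow_ne_zero _ u.ne_zero, fun x y => by simp only [scal_apply, smul_add], fun b x => by
        simp only [scal_apply, RingEquiv.refl_apply, smul_smul, mul_comm], fun x => by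
        rw [scal_apply, QuadraticMap.map_smul, smul_eq_mul, RingEquiv.refl_apply]; ring⟩
    have h7 : IsSS Q8 (σ.trans σ) (l * σ l) (scal Q8 u).1 := by rw [hu]; exact h2
    exact isSS_unique h7 h6 hv0
  have hne : ∀ (g : Gam Q8) (σ : F ≃+* F) (l : F), IsSS Q8 σ l g.1 →
      Psi Q8 g ∈ X → Psi Q8 g ∉ In → σ ≠ 1 := by
    rintro g σ l hg hgX hgI rfl
    exact hgI (hsim g ⟨l, hg⟩ hgX)
  have hfin : Finite (F ≃+* F) := Finite.of_injective (fun σ : F ≃+* F => (σ : F → F)) DFunLike.coe_injective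
  have e1 := KFacts.RgdFld.Two.inv_unique (hne g σ l hg hx hxN) (hinv g σ l hg hx) (hne k ρ l' hk hy hyN)
    (hinv k ρ l' hk hy)
  subst e1
  have h5 : IsSS Q8 (RingEquiv.refl F) (l * σ l') (g * k).1 := by
    have h6 := hg.mul hk
    have h7 : σ.trans σ = RingEquiv.refl F := hinv g σ l hg hx
    rwa [h7] at h6
  rw [← map_mul]
  exact hsim (g * k) ⟨_, h5⟩ (by rw [map_mul]; exact X.mul_mem hx hy)

end D4

/-- plus type -/
theorem outNil_plus' {m : ℕ} (hm : 4 ≤ m) : OutNil (Cfsg.POmega F (Cfsg.quadFormPlus m F)) := by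
  rcases Nat.lt_or_ge m 5 with h | h
  · obtain rfl : m = 4 := by omega
    have := Fintype.ofFinite F
    have hG := good_plus (F := F) (m := 4) (by omega)
    have h1 : OutNil (↥(E (plusForm 4 F)) ⧸ Subgroup.center ↥(E (plusForm 4 F))) := by
      rw [q8_eq]; exact outNil_D4_P
    have h3 := OutNil.of_equiv (pomegaEquiv hG).symm h1
    rwa [coe_plusForm] at h3
  · exact outNil_plus h

/-! ### The rows -/

omit [Field F] [Finite F] [CharP F 2] in
theorem outNil_pOmegaPlus {L : Type*} [Group L] (h : IsPOmegaPlusChar 2 L) : OutNil L := by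
  obtain ⟨F, _, _, _, m, hm, ⟨e⟩⟩ := h
  exact (outNil_plus' hm).of_equiv e.symm

omit [Field F] [Finite F] [CharP F 2] in
theorem outNil_pOmegaMinus {L : Type*} [Group L] (h : IsPOmegaMinusChar 2 L) : OutNil L := by
  obtain ⟨F, _, _, _, m, a, b, hm, hab, ⟨e⟩⟩ := h
  exact (outNil_minus hm a b hab).of_equiv e.symm

omit [Field F] [Finite F] [CharP F 2] in
theorem outNil_pOmegaOdd {L : Type*} [Group L] (h : IsPOmegaOddChar 2 L) : OutNil L := by
  obtain ⟨F, _, _, _, m, hm, hodd, -⟩ := h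
  exfalso
  obtain ⟨n, -, hn⟩ := FiniteField.card F 2
  rw [hn] at hodd
  have h2 : Even (2 ^ (n : ℕ)) := (Nat.even_pow.2 ⟨even_two, n.ne_zero⟩)
  exact (Nat.not_even_iff_odd.2 hodd) h2

end Cfsg.Agent.Omega.Lie.OutT
end

private theorem dce_f6ce50e655d8 : _root_.True := by
  try have : _root_.True := by simp only [_root_.Cfsg.Agent.ClassicalGeometry.OrthAut1.stab.congr_simp]
  exact _root_.True.intro
end

-- part: OddHalf/LongSL/All
section
set_option linter.all false
open scoped Cfsg.Agent.FastGrp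

-- part: OddHalf/LongSL/Lift
section
/-!
# Long root `SL₂` subgroups lift to central extensions by 2-groups (ODD NI, fact (F1))
-/

set_option autoImplicit false

namespace Cfsg.Agent.OddHalf.LongSL

open Subgroup
open scoped commutatorElement

/-- **The lift**: `HasLong q` passes to central extensions by 2-groups if `3 < q`. -/
theorem HasLong.lift {K X : Type*} [Group K] [Finite K] [Group X] (π : K →* X) (hπ : Function.Surjective π)
    (hc : π.ker ≤ center K) (h2 : IsPGroup 2 ↥π.ker) {q : ℕ} (hq : 3 < q) (h : HasLong q X) : HasLong q K := by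
  obtain ⟨j, J, hj1, hj2, hj3, hj4, F, i1, i2, hF, hqo, ⟨e⟩⟩ := h
  have hperf : commutator ↥J = ⊤ := by
    have h3 : (commutator ↥J).map e.toMonoidHom = commutator (Matrix.SpecialLinearGroup (Fin 2) F) := by
      rw [_root_.commutator_def, _root_.commutator_def, map_commutator]
      congr 1 <;> exact map_top_of_surjective _ e.surjective
    rw [TwoFusion.SLTwoFacts.commutator_eq_top (by rw [hF]; exact hq)] at h3
    rw [eq_top_iff]
    intro x _
    have h4 : e.toMonoidHom x ∈ (commutator ↥J).map e.toMonoidHom := by rw [h3]; trivial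
    obtain ⟨y, hy, hxy⟩ := h4
    rwa [← e.injective hxy]
  have hJJ : ⁅J, J⁆ = J := by
    have h3 : (commutator ↥J).map J.subtype = ⁅J, J⁆ := by
      rw [_root_.commutator_def, map_commutator, ← MonoidHom.range_eq_map, Subgroup.range_subtype]
    rw [← h3, hperf, ← MonoidHom.range_eq_map, Subgroup.range_subtype]
  set P : Subgroup K := J.comap π with hP
  have hPJ : P.map π = J := map_comap_eq_self_of_surjective hπ J
  set E : Subgroup K := ⁅P, P⁆ with hE
  have hEP : E ≤ P := commutator_le_self P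
  have hEJ : E.map π = J := by rw [hE, map_commutator, hPJ, hJJ]
  have hdec : ∀ x ∈ P, ∃ y ∈ E, ∃ z ∈ center K, x = y * z := by
    intro x hx
    have h3 : π x ∈ E.map π := by rw [hEJ]; exact hx
    obtain ⟨y, hy, hxy⟩ := h3
    refine ⟨y, hy, y⁻¹ * x, hc ?_, by group⟩
    rw [MonoidHom.mem_ker, map_mul, map_inv, hxy, inv_mul_cancel]
  have hEE : ⁅E, E⁆ = E := by
    refine le_antisymm (commutator_le_self E) ?_
    conv_lhs => rw [hE]
    rw [commutator_le]
    intro x hx y hy
    obtain ⟨x', hx', z, hz, rfl⟩ := hdec x hx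
    obtain ⟨y', hy', w, hw, rfl⟩ := hdec y hy
    have hz' := mem_center_iff.1 hz
    have hw' := mem_center_iff.1 hw
    have h3 : ⁅x' * z, y' * w⁆ = ⁅x', y'⁆ := by
      rw [commutatorElement_def, commutatorElement_def, mul_inv_rev, mul_inv_rev]
      calc x' * z * (y' * w) * (z⁻¹ * x'⁻¹) * (w⁻¹ * y'⁻¹)
          = x' * (z * y') * (w * (z⁻¹ * x'⁻¹) * w⁻¹) * y'⁻¹ := by group
        _ = x' * (y' * z) * (z⁻¹ * x'⁻¹) * y'⁻¹ := by
            rw [← hz' y', ← hw' (z⁻¹ * x'⁻¹), mul_inv_cancel_right]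
        _ = x' * y' * x'⁻¹ * y'⁻¹ := by group
    rw [h3]
    exact commutator_mem_commutator hx' hy'
  have hEperf : commutator ↥E = ⊤ := by
    have h3 : (commutator ↥E).map E.subtype = E := by
      rw [_root_.commutator_def, map_commutator, ← MonoidHom.range_eq_map, Subgroup.range_subtype, hEE]
    rw [eq_top_iff]
    intro x _
    have h4 : E.subtype x ∈ (commutator ↥E).map E.subtype := by rw [h3]; exact x.2
    obtain ⟨y, hy, hxy⟩ := h4
    rwa [← E.subtype_injective hxy]
  -- the map to `SL₂`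
  have hEJ' : ∀ x : ↥E, π x ∈ J := fun x => by rw [← hEJ]; exact mem_map_of_mem _ x.2
  let πE : ↥E →* ↥J := (π.comp E.subtype).codRestrict J hEJ'
  have hπE : Function.Surjective πE := by
    rintro ⟨y, hy⟩
    rw [← hEJ] at hy
    obtain ⟨x, hx, hxy⟩ := hy
    exact ⟨⟨x, hx⟩, Subtype.ext hxy⟩
  let π' : ↥E →* Matrix.SpecialLinearGroup (Fin 2) F := e.toMonoidHom.comp πE
  have hπ' : Function.Surjective π' := e.surjective.comp hπE
  have hkin : ∀ x : ↥E, x ∈ π'.ker → π x = 1 := by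
    intro x hx
    have h3 : e (πE x) = 1 := hx
    have h4 : πE x = 1 := (map_eq_one_iff e e.injective).1 h3
    exact congrArg Subtype.val h4
  have hk : π'.ker = ⊥ := by
    let Q : Sylow 2 (Matrix.SpecialLinearGroup (Fin 2) F) := default
    obtain ⟨k, -, ⟨e'⟩⟩ := S0261.result (F := F) (by rw [hF]; exact hqo) Q
    have : NeZero (2 ^ k) := ⟨by positivity⟩
    refine ker_eq_bot hEperf π' hπ' ?_ ?_ Q e'
    · intro x hx
      rw [mem_center_iff]
      intro g
      exact Subtype.ext (mem_center_iff.1 (hc (MonoidHom.mem_ker.2 (hkin x hx))) g)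
    · rintro ⟨x, hx⟩
      obtain ⟨k, hk⟩ := h2 ⟨x, hkin x hx⟩
      refine ⟨k, ?_⟩
      have h3 : (x : K) ^ 2 ^ k = 1 := congrArg Subtype.val hk
      apply Subtype.ext
      apply Subtype.ext
      simpa using h3
  have hinj : Function.Injective π' := (MonoidHom.ker_eq_bot_iff _).1 hk
  obtain ⟨i, hi⟩ := hπE ⟨j, hj2⟩
  have hij : π i = j := congrArg Subtype.val hi
  have hEC : E ≤ centralizer ({(i : K)} : Set K) := by
    intro x hx
    rw [mem_centralizer_iff]
    rintro _ rfl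
    have h3 : π' (i * ⟨x, hx⟩) = π' (⟨x, hx⟩ * i) := by
      show e (πE (i * ⟨x, hx⟩)) = e (πE (⟨x, hx⟩ * i))
      congr 1
      rw [map_mul, map_mul, hi]
      apply Subtype.ext
      exact mem_centralizer_iff.1 (hj3 (πE ⟨x, hx⟩).2) j rfl
    exact congrArg Subtype.val (hinj h3)
  refine ⟨i, E, ?_, i.2, hEC, ?_, F, i1, i2, hF, hqo, ⟨MulEquiv.ofBijective π' ⟨hinj, hπ'⟩⟩⟩
  · rw [Subgroup.orderOf_coe, ← orderOf_injective π' hinj]
    show orderOf (e (πE i)) = 2
    rw [hi]
    exact (orderOf_injective e.toMonoidHom e.injective _).trans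
      ((Subgroup.orderOf_coe (⟨j, hj2⟩ : ↥J)).symm.trans hj1)
  · -- subnormality
    set D : Subgroup K := (centralizer ({j} : Set X)).comap π with hD
    have hCD : centralizer ({(i : K)} : Set K) ≤ D := by
      intro x hx
      rw [hD, mem_comap, mem_centralizer_iff]
      rintro _ rfl
      rw [← hij, ← map_mul, ← map_mul, mem_centralizer_iff.1 hx _ rfl]
    have hPD : (P.subgroupOf D).IsSubnormal := by
      let f : ↥D →* ↥(centralizer ({j} : Set X)) := (π.comp D.subtype).codRestrict _ (fun x => x.2)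
      have h3 := hj4.comap f
      have h4 : (J.subgroupOf (centralizer ({j} : Set X))).comap f = P.subgroupOf D := by
        ext x; rfl
      rwa [h4] at h3
    have hPle : P ≤ D := comap_mono hj3
    have hED : (E.subgroupOf D).IsSubnormal := by
      refine Subgroup.IsSubnormal.trans (K := P.subgroupOf D) ?_ (Subgroup.Normal.isSubnormal ?_) hPD
      · intro x hx
        exact hEP hx
      · constructor
        rintro ⟨⟨x, hxD⟩, hxP⟩ hx ⟨⟨g, hgD⟩, hgP⟩
        have hx' : x ∈ E := hx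
        have hg' : g ∈ P := hgP
        have h3 : g * x * g⁻¹ ∈ E := by
          have h4 : g * x * g⁻¹ = ⁅g, x⁆ * x := by rw [commutatorElement_def]; group
          rw [h4]
          exact mul_mem (commutator_mem_commutator hg' (hEP hx')) hx'
        exact h3
    have h3 := hED.comap (Subgroup.inclusion hCD)
    have h4 : (E.subgroupOf D).comap (Subgroup.inclusion hCD) = E.subgroupOf (centralizer ({(i : K)} : Set K)) := by
      ext x; rfl
    rwa [h4] at h3

end Cfsg.Agent.OddHalf.LongSL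
end

-- part: OddHalf/LongSL/All
section
/-!
# Fact (F1) of node NI: a long `SL₂(q)` in every quasisimple `K` with `K / Z(K)` of Lie type over `F_q`, `q > 3` odd
-/

set_option autoImplicit false

namespace Cfsg.Agent.OddHalf.LongSL

open Subgroup Cfsg Cfsg.Agent.OddHalf.NI

universe u

/-- every group of Lie type over a field of odd order `q > 3`, of rank at least 2 or `U₃`, has a long `SL₂(q)` -/
theorem hasLong_of_lieBig {X : Type u} [Group X] (h : LieBig X) : ∃ q, 3 < q ∧ HasLong q X := by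
  obtain ⟨F, _, _, ho, h3, h⟩ := h
  obtain ⟨p, hpc⟩ := CharP.exists F
  have hpp : p.Prime := (CharP.char_is_prime_or_zero F p).resolve_right (CharP.char_ne_zero_of_finite F p)
  have : Fact p.Prime := ⟨hpp⟩
  have hp2 : Odd p := by
    rcases hpp.eq_two_or_odd' with rfl | h
    · exact absurd (by exact_mod_cast CharP.cast_eq_zero F 2) (two_ne_of_odd ho)
    · exact h
  rcases h with h | h | h | h | h | h | h | h | h | h | h | h | h
  · obtain ⟨n, hn, ⟨e⟩⟩ := h
    exact ⟨_, h3, (Mat.hasLong_psl ho hn).of_equiv e.symm⟩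
  · obtain ⟨m, hm, ⟨e⟩⟩ := h
    exact ⟨_, h3, (Mat.hasLong_psp ho hm).of_equiv e.symm⟩
  · obtain ⟨n, q, hq, hF, hn, ⟨e⟩⟩ := h
    have hoq : Odd q := (Nat.odd_pow_iff two_ne_zero).1 (hF ▸ ho)
    exact ⟨q, hq, (Mat.hasLong_psu hF hoq hn).of_equiv e.symm⟩
  · obtain ⟨m, hm, ⟨e⟩⟩ := h
    exact ⟨_, h3, (Orth.hasLong_odd F hp2 hm).of_equiv e.symm⟩
  · obtain ⟨m, hm, ⟨e⟩⟩ := h
    exact ⟨_, h3, (Orth.hasLong_plus F hp2 (by omega)).of_equiv e.symm⟩
  · obtain ⟨m, a, b, hm, hab, ⟨e⟩⟩ := h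
    exact ⟨_, h3, (Orth.hasLong_minus F hp2 a b hab (by omega)).of_equiv e.symm⟩
  · obtain ⟨e⟩ := h
    exact ⟨_, h3, (Chev.hasLong_G2 F ho).of_equiv e.symm⟩
  · obtain ⟨e⟩ := h
    exact ⟨_, h3, (Chev.hasLong_F4 F ho).of_equiv e.symm⟩
  · obtain ⟨e⟩ := h
    exact ⟨_, h3, (Chev.hasLong_E6 F ho).of_equiv e.symm⟩
  · obtain ⟨e⟩ := h
    exact ⟨_, h3, (Chev.hasLong_E7 F ho).of_equiv e.symm⟩
  · obtain ⟨e⟩ := h
    exact ⟨_, h3, (Chev.hasLong_E8 F ho).of_equiv e.symm⟩
  · obtain ⟨q, hq, hq3, hF, ⟨e⟩⟩ := h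
    have hoq : Odd q := (Nat.odd_pow_iff two_ne_zero).1 (hF ▸ ho)
    exact ⟨q, hq3, (Tw.hasLong_E6 hq hF hoq).of_equiv e.symm⟩
  · obtain ⟨q, hq, hq3, hF, ⟨e⟩⟩ := h
    have hoq : Odd q := (Nat.odd_pow_iff (by norm_num)).1 (hF ▸ ho)
    exact ⟨q, hq3, (Tw.hasLong_D4 hq hF hoq).of_equiv e.symm⟩

/-- **Fact (F1).** -/
theorem f1 : NI.F1.{u} := by
  intro K _ _ _ h2 hL
  obtain ⟨q, hq, h⟩ := hasLong_of_lieBig hL
  have h' : HasLong q K := h.lift (QuotientGroup.mk' (center K)) (QuotientGroup.mk'_surjective _)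
    (by rw [QuotientGroup.ker_mk']) (by rw [QuotientGroup.ker_mk']; exact h2) hq
  obtain ⟨j, J, h1, h2, h3, h4, F, i1, i2, h5, h6, e⟩ := h'
  exact ⟨j, J, h1, h2, h3, h4, F, i1, i2, by rw [h5]; exact h6, by rw [h5]; exact hq, e⟩

end Cfsg.Agent.OddHalf.LongSL
end
end

-- part: OddHalf/NI3/Sn
section
set_option linter.all false
open scoped Cfsg.Agent.FastGrp

/-!
# Node NI over `F₃`: subnormal subgroups of subgroups, subgroups isomorphic to `SL₂(3)`

`Sn J C` : `J` is a subnormal subgroup of `C`. `T3 J z` (from `Cit.SolvTwo`) : `J ≅ SL₂(3)` with involution `z`.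
`T3.comm_of_sn` : a 2-subgroup of `C` normalised by `J`, which does not contain `O₂(J)`, is centralised by the elements
of order 3 of `J` (`J` subnormal in `C`).
-/

set_option autoImplicit false
set_option linter.style.haveILetI false

namespace Cfsg.Agent.OddHalf.NI3

open Subgroup Cfsg Cfsg.Agent.Cit Cfsg.Agent.Cit.SolvTwo

variable {G G' : Type*} [Group G] [Group G']

/-- `J` is a subnormal subgroup of `C` -/
def Sn (J C : Subgroup G) : Prop := J ≤ C ∧ (J.subgroupOf C).IsSubnormal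

namespace Sn

variable {J C C' D : Subgroup G}

theorem le (h : Sn J C) : J ≤ C := h.1

theorem refl (C : Subgroup G) : Sn C C := ⟨le_rfl, by rw [subgroupOf_self]; exact IsSubnormal.top⟩

theorem comap (f : G' →* G) {J C : Subgroup G} (h : Sn J C) : Sn (J.comap f) (C.comap f) := by
  refine ⟨comap_mono h.1, ?_⟩
  have h1 := h.2.comap (f.subgroupComap C)
  exact h1

theorem map (f : G →* G') {J C : Subgroup G} (h : Sn J C) : Sn (J.map f) (C.map f) := by
  refine ⟨map_mono h.1, ?_⟩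
  have h1 := h.2.map (f := f.subgroupMap C) (f.subgroupMap_surjective C)
  convert h1 using 1
  ext x
  constructor
  · rintro ⟨y, hy, hyx⟩
    exact ⟨⟨y, h.1 hy⟩, hy, Subtype.ext hyx⟩
  · rintro ⟨y, hy, rfl⟩
    exact ⟨y, hy, rfl⟩

theorem restrict (h : Sn J C) (hC : C' ≤ C) (hJ : J ≤ C') : Sn J C' := by
  refine ⟨hJ, ?_⟩
  exact h.2.comap (inclusion hC)

theorem trans (h : Sn J C) (h' : Sn C D) : Sn J D := by
  refine ⟨h.1.trans h'.1, ?_⟩
  refine IsSubnormal.trans (K := C.subgroupOf D) (fun x hx => h.1 hx) ?_ h'.2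
  exact h.2.comap ((subgroupOfEquivOfLe h'.1).toMonoidHom)

theorem of_normal (h : J ≤ C) (hn : C ≤ normalizer (J : Set G)) : Sn J C :=
  ⟨h, ((normal_subgroupOf_iff_le_normalizer h).2 hn).isSubnormal⟩

theorem isSubnormal (h : Sn J C) (hC : C.IsSubnormal) : J.IsSubnormal := h.2.trans h.1 hC

theorem of_isSubnormal (h : J.IsSubnormal) (hJ : J ≤ C) : Sn J C := ⟨hJ, h.comap C.subtype⟩

theorem inf (h : Sn J C) (D : Subgroup G) : Sn (J ⊓ D) (C ⊓ D) := by
  have h1 : (D ⊓ C) ≤ C := inf_le_right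
  refine ⟨inf_le_inf_right _ h.1, ?_⟩
  have h2 := h.2.comap (inclusion (inf_le_left : C ⊓ D ≤ C))
  convert h2 using 1
  ext x
  simp only [mem_subgroupOf, mem_comap, mem_inf]
  exact ⟨fun hx => hx.1, fun hx => ⟨hx, x.2.2⟩⟩

theorem inf_of_isSubnormal (h : J.IsSubnormal) (D : Subgroup G) : Sn (J ⊓ D) D := by
  refine ⟨inf_le_right, ?_⟩
  rw [inf_subgroupOf_right]
  exact h.comap D.subtype

theorem cj (g : G) (h : Sn J C) : Sn (Cit.cj g J) (Cit.cj g C) := h.map _

end Sn

/-! ### Subnormal subgroups of 2-power index -/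

/-- a subnormal subgroup of 2-power index contains all elements of odd order -/
theorem mem_of_index {X : Type*} [Group X] {N : Subgroup X} (hN : N.IsSubnormal) :
    ∀ {n : ℕ}, N.index ∣ 2 ^ n → ∀ {v : X}, Odd (orderOf v) → v ∈ N := by
  induction hN with
  | top => intro n _ v _; exact mem_top v
  | step H K hle hK hHK ih =>
    intro n hn v hv
    have h1 : v ∈ K := ih ((index_dvd_of_le hle).trans hn) hv
    have h2 : H.relIndex K ∣ 2 ^ n := (relIndex_dvd_index_of_le hle).trans hn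
    haveI := hHK
    have h3 : orderOf ((⟨v, h1⟩ : K) : ↥K ⧸ H.subgroupOf K) ∣ 2 ^ n :=
      (_root_.orderOf_dvd_natCard _).trans h2
    have h4 : orderOf ((⟨v, h1⟩ : K) : ↥K ⧸ H.subgroupOf K) ∣ orderOf v := by
      have h5 := orderOf_map_dvd (QuotientGroup.mk' (H.subgroupOf K)) (⟨v, h1⟩ : K)
      have h6 : orderOf (⟨v, h1⟩ : K) = orderOf v := (orderOf_coe (⟨v, h1⟩ : K)).symm
      rwa [h6] at h5
    have h5 : Nat.Coprime (2 ^ n) (orderOf v) := Nat.Coprime.pow_left n (Nat.coprime_two_left.2 hv)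
    have h6 := Nat.dvd_gcd h3 h4
    rw [h5, Nat.dvd_one, orderOf_eq_one_iff, QuotientGroup.eq_one_iff] at h6
    exact h6

/-- `J` subnormal in `J P`, `P` a 2-group normalised by `J`: the odd elements of `J P` are in `J` -/
theorem mem_of_sup [Finite G] {J P : Subgroup G} (hs : Sn J (J ⊔ P)) (hP : IsPGroup 2 P)
    (hn : J ≤ normalizer (P : Set G)) {v : G} (hv : v ∈ J ⊔ P) (ho : Odd (orderOf v)) : v ∈ J := by
  haveI : Fact (Nat.Prime 2) := ⟨Nat.prime_two⟩
  obtain ⟨n, hn2⟩ := IsPGroup.iff_card.1 hP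
  -- the index
  have hPn : (P.subgroupOf (J ⊔ P)).Normal :=
    (normal_subgroupOf_iff_le_normalizer le_sup_right).2 (sup_le hn le_normalizer)
  have h1 : P.relIndex (J ⊔ P) ∣ Nat.card J := by
    have h2 : P.relIndex (J ⊔ P) = P.relIndex J := by
      have h3 : (P.subgroupOf (J ⊔ P)).relIndex ((J.subgroupOf (J ⊔ P)) ⊔ (P.subgroupOf (J ⊔ P))) =
          (P.subgroupOf (J ⊔ P)).relIndex (J.subgroupOf (J ⊔ P)) := relIndex_sup_right _ _
      rw [← relIndex_map_map_of_injective _ _ (J ⊔ P).subtype_injective,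
        ← relIndex_map_map_of_injective _ _ (J ⊔ P).subtype_injective, Subgroup.map_sup,
        map_subgroupOf_eq_of_le le_sup_right, map_subgroupOf_eq_of_le le_sup_left] at h3
      exact h3
    rw [h2]
    exact relIndex_dvd_card _ _
  have hcm : ∀ A B : Subgroup G, A ≤ B → A.relIndex B * Nat.card A = Nat.card B := by
    intro A B hAB
    have h5 := (A.subgroupOf B).index_mul_card
    rwa [Nat.card_congr (subgroupOfEquivOfLe hAB).toEquiv] at h5
  have h2 : J.relIndex (J ⊔ P) * Nat.card J = P.relIndex (J ⊔ P) * Nat.card P := by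
    rw [hcm J _ le_sup_left, hcm P _ le_sup_right]
  have h3 : J.relIndex (J ⊔ P) ∣ Nat.card P := by
    obtain ⟨c, hc⟩ := h1
    have h4 : 0 < P.relIndex (J ⊔ P) := Nat.pos_of_ne_zero (by
      intro h0
      rw [h0, zero_mul] at hc
      exact (Nat.card_pos (α := J)).ne' hc)
    refine ⟨c, ?_⟩
    have h5 : J.relIndex (J ⊔ P) * (P.relIndex (J ⊔ P) * c) = P.relIndex (J ⊔ P) * Nat.card P := by
      rw [← hc]; exact h2
    have h6 : P.relIndex (J ⊔ P) * (J.relIndex (J ⊔ P) * c) = P.relIndex (J ⊔ P) * Nat.card P := by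
      rw [← h5]; ring
    exact (Nat.eq_of_mul_eq_mul_left h4 h6).symm
  rw [hn2] at h3
  have h4 := mem_of_index hs.2 (n := n) h3 (v := ⟨v, hv⟩) (by rwa [orderOf_mk])
  exact h4

/-! ### `SL₂(3)` -/

/-- the group `SL₂(3)` -/
abbrev SL23 := Matrix.SpecialLinearGroup (Fin 2) (ZMod 3)

theorem odd_of_cube {v : G} (h : v * v * v = 1) : Odd (orderOf v) := by
  have h1 : orderOf v ∣ 3 := orderOf_dvd_of_pow_eq_one (by rw [pow_succ, pow_succ, pow_one]; exact h)
  exact Odd.of_dvd_nat (by decide) h1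

/-- a 2-subgroup normalised by `J` which contains an element of `J` outside `{1, z}` contains `O₂(J)` -/
theorem T3.mem_or {J P : Subgroup G} {z : G} (h : T3 J z) (hP : IsPGroup 2 P) (hn : J ≤ normalizer (P : Set G))
    (hne : ¬ ∀ y ∈ J, y * y = z → y ∈ P) {x : G} (hx : x ∈ J) (hxP : x ∈ P) : x = 1 ∨ x = z := by
  obtain ⟨n, hn2⟩ := hP ⟨x, hxP⟩
  have hx2 : x ^ 2 ^ n = 1 := by simpa using congrArg Subtype.val hn2
  rcases h.cases x hx with h1 | h1 | h1 | h1 | h1
  · exfalso
    apply hne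
    intro y hy hyz
    obtain ⟨g, hg, hgx⟩ := h.conj x hx y hy h1 hyz
    rw [← hgx]
    exact (mem_normalizer_iff.1 (hn hg) x).1 hxP
  · exact Or.inl h1
  · exact Or.inr h1
  · left
    exact Cit.SLThree.Sl.eq_one_of_cube h1 hx2
  · right
    -- `x ^ 6 = 1`, so `x ^ 2 = 1`
    have h2 : (x * x) * (x * x) * (x * x) = 1 := by
      calc (x * x) * (x * x) * (x * x) = (x * x * x) * (x * x * x) := by group
        _ = 1 := by rw [h1, h.z_sq]
    have h3 : x * x = 1 := by
      refine Cit.SLThree.Sl.eq_one_of_cube h2 (n := n) ?_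
      rw [← pow_two, ← pow_mul, mul_comm, pow_mul, hx2, one_pow]
    rw [← h1, h3, one_mul]

/-- a 2-subgroup of `C` normalised by `J`, not containing `O₂(J)`, is centralised by the elements of order 3 of the
subnormal subgroup `J` of `C` -/
theorem T3.comm_of_sn [Finite G] {J C P : Subgroup G} {z : G} (h : T3 J z) (hs : Sn J C) (hPC : P ≤ C)
    (hP : IsPGroup 2 P) (hn : J ≤ normalizer (P : Set G)) (hne : ¬ ∀ y ∈ J, y * y = z → y ∈ P)
    {v : G} (hv : v ∈ J) (h3 : v * v * v = 1) {w : G} (hw : w ∈ P) : v * w = w * v := by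
  have hs' : Sn J (J ⊔ P) := hs.restrict (sup_le hs.1 hPC) le_sup_left
  have h1 : w⁻¹ * v * w ∈ J := by
    refine mem_of_sup hs' hP hn ?_ ?_
    · exact mul_mem (mul_mem (inv_mem (mem_sup_right hw)) (mem_sup_left hv)) (mem_sup_right hw)
    · have h4 : orderOf (w⁻¹ * v * w) = orderOf v := by
        have := orderOf_injective (MulAut.conj w⁻¹).toMonoidHom (MulAut.conj w⁻¹).injective v
        simpa using this
      rw [h4]; exact odd_of_cube h3
  set c := w⁻¹ * v * w * v⁻¹ with hc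
  have hcJ : c ∈ J := mul_mem h1 (inv_mem hv)
  have hcP : c ∈ P := by
    have h5 : v * w * v⁻¹ ∈ P := (mem_normalizer_iff.1 (hn hv) w).1 hw
    have h6 : c = w⁻¹ * (v * w * v⁻¹) := by rw [hc]; group
    rw [h6]; exact mul_mem (inv_mem hw) h5
  have hcc : c * c = 1 ∧ c * v = v * c := by
    rcases T3.mem_or h hP hn hne hcJ hcP with h5 | h5
    · rw [h5]; exact ⟨by simp, by simp⟩
    · rw [h5]
      refine ⟨h.z_sq, ?_⟩
      -- `z` is central
      by_cases hz : v * z * v⁻¹ = z
      · rw [← mul_inv_eq_iff_eq_mul.1 (by simpa using hz)]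
      · exfalso
        have h7 : (v * z * v⁻¹) * (v * z * v⁻¹) = 1 := by
          calc (v * z * v⁻¹) * (v * z * v⁻¹) = v * (z * z) * v⁻¹ := by group
            _ = 1 := by rw [h.z_sq]; group
        have h8 : v * z * v⁻¹ ∈ J := mul_mem (mul_mem hv h.z_mem) (inv_mem hv)
        rcases h.cases _ h8 with h9 | h9 | h9 | h9 | h9
        · exact h.z_ne (by rw [← h9, h7])
        · apply h.z_ne
          have : z = v⁻¹ * (v * z * v⁻¹) * v := by group
          rw [this, h9]; group
        · exact hz h9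
        · rw [h7, one_mul] at h9
          apply h.z_ne
          have : z = v⁻¹ * (v * z * v⁻¹) * v := by group
          rw [this, h9]; group
        · rw [h7, one_mul] at h9
          exact hz h9
  have h5 : w⁻¹ * v * w = c * v := by rw [hc]; group
  have h6 : (c * v) * (c * v) * (c * v) = 1 := by
    rw [← h5]
    calc (w⁻¹ * v * w) * (w⁻¹ * v * w) * (w⁻¹ * v * w) = w⁻¹ * (v * v * v) * w := by group
      _ = 1 := by rw [h3]; group
  have h7 : (c * v) * (c * v) * (c * v) = c := by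
    calc (c * v) * (c * v) * (c * v) = c * (v * c) * (v * c) * v := by group
      _ = c * (c * v) * (c * v) * v := by rw [← hcc.2]
      _ = (c * c) * (v * c) * v * v := by group
      _ = (c * v) * v * v := by rw [hcc.1, one_mul, ← hcc.2]
      _ = c * (v * v * v) := by group
      _ = c := by rw [h3, mul_one]
  rw [h7] at h6
  rw [h6, one_mul] at h5
  calc v * w = w * (w⁻¹ * v * w) := by group
    _ = w * v := by rw [h5]

end Cfsg.Agent.OddHalf.NI3
end

-- part: OddHalf/NI3/Bad/Unb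
section
prune_inst 0x20200040192200000018001010002040500001020060000190600d0200061100200401014cc00d10011aae6020028000000000c90238000020008a0000000020842a62e0923cbd04350007c0f805180c00000000000000000000000000041004000000000
set_option linter.all false
open scoped Cfsg.Agent.FastGrp

/-!
# NI over `F₃`, THEOREM NIB, step (1): use of the unbalanced group theorem (S1311)

* `genFit_eq` : `F*(A) = N` for a simple normal subgroup `N` with `C(N) = 1`.
* `unb` : `X` simple, `α`, `β` commuting automorphisms, `α² = 1`, `β³ = 1`, not trivial, `β` trivial on a subgroup `F` of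
  `fix α` normalised by `fix α` and with `x (β x)⁻¹ ∈ F` for all `x ∈ fix α`: `X` is in the list of S1311.
-/

set_option autoImplicit false
set_option linter.style.haveILetI false

namespace Cfsg.Agent.OddHalf.NI3.Bad.Unb

open Subgroup Cfsg Cfsg.Agent.OddHalf.Iface Cfsg.Agent.SignalizersComponents
open Cfsg.Agent.OddHalf.NI.Ex (fix mem_fix)

universe u

/-- The conclusion of S1311. -/
def IsUnb (X : Type u) [Group X] : Prop :=
  LieOdd X ∨ (∃ n : ℕ, Odd n ∧ 7 ≤ n ∧ Nonempty (X ≃* ↥(alternatingGroup (Fin n)))) ∨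
    (∃ (F : Type) (_ : Field F) (_ : Fintype F), Fintype.card F = 4 ∧
      Nonempty (X ≃* Matrix.ProjectiveSpecialLinearGroup (Fin 3) F)) ∨ Spor.IsoHe X

theorem genFit_eq {A : Type*} [Group A] [Finite A] {N : Subgroup A} (hN : N.Normal) (hs : IsSimpleGroup N)
    (hna : ¬ IsMulCommutative N) (hc : centralizer (N : Set A) = ⊥) : generalizedFittingSubgroup A = N := by
  have hNc : IsComponent N := ⟨hN.isSubnormal, IntrinsicDiag.quasisimple_of_simple hs hna⟩
  have hNl : N ≤ layer A := Components.component_le_layer hNc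
  have hl : layer A ≤ N := by
    rw [Components.layer_le_iff]
    intro L hL
    by_contra hne
    have hLN : L ≠ N := fun h => hne (h ▸ le_rfl)
    have h1 := Components.component_le_centralizer_of_ne hL hNc hLN
    rw [hc, le_bot_iff] at h1
    exact Components.component_ne_bot hL h1
  have hf : fittingSubgroup A ≤ N := by
    have h1 : fittingSubgroup A ≤ centralizer (N : Set A) := by
      rw [le_centralizer_iff]
      exact hNl.trans Components.layer_le_centralizer_fitting
    rw [hc, le_bot_iff] at h1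
    rw [h1]; exact bot_le
  exact le_antisymm (sup_le hl hf) (hNl.trans le_sup_left)


section Transfer

variable {X Y : Type u} [Group X] [Group Y]

theorem IsUnb.congr (e : X ≃* Y) (h : IsUnb X) : IsUnb Y := by
  rcases h with ⟨p, h1, h2, h3⟩ | ⟨n, h1, h2, ⟨f⟩⟩ | ⟨F, i, j, h1, ⟨f⟩⟩ | ⟨⟨f⟩⟩
  · exact Or.inl ⟨p, h1, h2, Known.isLieTypeChar_congr e h3⟩
  · exact Or.inr (Or.inl ⟨n, h1, h2, ⟨e.symm.trans f⟩⟩)
  · exact Or.inr (Or.inr (Or.inl ⟨F, i, j, h1, ⟨e.symm.trans f⟩⟩))
  · exact Or.inr (Or.inr (Or.inr (⟨e.symm.trans f⟩ : Nonempty _)))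

end Transfer

section

variable {X : Type u} [Group X]

theorem conj_mul_eq (α : MulAut X) (x : X) : α * MulAut.conj x = MulAut.conj (α x) * α := by
  ext y
  simp [MulAut.conj_apply]

/-- **S1311 for commuting automorphisms.** -/
theorem unb (h1311 : Stmts.P1311.{u}) [Finite X] (hs : IsSimpleGroup X) (hna : ¬ IsMulCommutative X)
    {α β : MulAut X} (hα : α * α = 1) (hα1 : α ≠ 1) (hβ : β * β * β = 1) (hβ1 : β ≠ 1) (hc : α * β = β * α)
    (F : Subgroup X) (hFn : ∀ x, α x = x → ∀ f ∈ F, x * f * x⁻¹ ∈ F) (hFβ : ∀ f ∈ F, β f = f)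
    (hFα : ∀ f ∈ F, α f = f) (hFx : ∀ x, α x = x → x * (β x)⁻¹ ∈ F) : IsUnb X := by
  haveI : Fact (Nat.Prime 2) := ⟨Nat.prime_two⟩
  have hZ : center X = ⊥ := by
    rcases hs.eq_bot_or_eq_top_of_normal (center X) inferInstance with h | h
    · exact h
    · exfalso
      apply hna
      refine ⟨⟨fun a b => ?_⟩⟩
      exact mem_center_iff.mp (h ▸ mem_top b : b ∈ center X) a
  have hinj : Function.Injective (MulAut.conj : X →* MulAut X) := by
    rw [injective_iff_map_eq_one]
    intro x hx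
    rw [← mem_bot, ← hZ, mem_center_iff]
    intro y
    have h1 := DFunLike.congr_fun hx y
    rw [MulAut.conj_apply, MulAut.one_apply, mul_inv_eq_iff_eq_mul] at h1
    exact h1.symm
  set I : Subgroup (MulAut X) := (MulAut.conj : X →* MulAut X).range with hI
  have hIn : I.Normal := by
    refine ⟨?_⟩
    rintro _ ⟨x, rfl⟩ g
    exact ⟨g x, by rw [conj_mul_eq, mul_inv_cancel_right]⟩
  set K : Subgroup (MulAut X) := closure {α, β} with hK
  have hKc : ∀ k ∈ K, k * α = α * k := by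
    intro k hk
    have h1 : K ≤ centralizer ({α} : Set (MulAut X)) := by
      rw [hK, closure_le]
      rintro k (rfl | rfl)
      · exact mem_centralizer_singleton_iff.2 rfl
      · exact mem_centralizer_singleton_iff.2 hc.symm
    exact mem_centralizer_singleton_iff.1 (h1 hk)
  have hKb : ∀ k ∈ K, k * β = β * k := by
    intro k hk
    have h1 : K ≤ centralizer ({β} : Set (MulAut X)) := by
      rw [hK, closure_le]
      rintro k (rfl | rfl)
      · exact mem_centralizer_singleton_iff.2 hc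
      · exact mem_centralizer_singleton_iff.2 rfl
    exact mem_centralizer_singleton_iff.1 (h1 hk)
  have hKF : ∀ k ∈ K, ∀ f ∈ F, k f = f := by
    intro k hk f hf
    have h1 : K ≤ MulAction.stabilizer (MulAut X) f := by
      rw [hK, closure_le]
      rintro k (rfl | rfl)
      · exact hFα f hf
      · exact hFβ f hf
    exact h1 hk
  set A : Subgroup (MulAut X) := I ⊔ K with hA
  have hIA : I ≤ A := le_sup_left
  have hαA : α ∈ A := (le_sup_right : K ≤ A) (subset_closure (Or.inl rfl))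
  have hβA : β ∈ A := (le_sup_right : K ≤ A) (subset_closure (Or.inr rfl))
  -- the elements of `C_A(α)`
  have hdec : ∀ c ∈ centralizer ({α} : Set (MulAut X)) ⊓ A, ∃ x : X, α x = x ∧ ∃ k ∈ K, c = MulAut.conj x * k := by
    intro c hc0
    have hc1 := (mem_inf.1 hc0).1
    have hc2 : c ∈ I ⊔ K := (mem_inf.1 hc0).2
    obtain ⟨_, ⟨x, rfl⟩, k, hk, rfl⟩ := (Subgroup.mem_sup_of_normal_left).1 hc2
    refine ⟨x, ?_, k, hk, rfl⟩
    apply hinj
    rw [mem_centralizer_singleton_iff] at hc1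
    have h1 : MulAut.conj x * α * k = MulAut.conj (α x) * α * k := by
      calc MulAut.conj x * α * k = MulAut.conj x * k * α := by rw [mul_assoc, ← hKc k hk, mul_assoc]
        _ = α * (MulAut.conj x * k) := hc1
        _ = MulAut.conj (α x) * α * k := by rw [← mul_assoc, conj_mul_eq]
    exact (mul_right_cancel (mul_right_cancel h1)).symm
  -- the subnormal chain
  set N : Subgroup (MulAut X) := F.map (MulAut.conj : X →* MulAut X) with hN
  set W : Subgroup (MulAut X) := N ⊔ zpowers β with hW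
  have hWC : W ≤ centralizer ({α} : Set (MulAut X)) ⊓ A := by
    refine sup_le ?_ ?_
    · rintro _ ⟨f, hf, rfl⟩
      refine mem_inf.2 ⟨?_, hIA ⟨f, rfl⟩⟩
      rw [mem_centralizer_singleton_iff]
      show MulAut.conj f * α = α * MulAut.conj f
      rw [conj_mul_eq, hFα f hf]
    · rw [zpowers_le]
      exact ⟨mem_centralizer_singleton_iff.2 hc.symm, hβA⟩
  have s1 : Sn (zpowers β) W := by
    refine Sn.of_normal le_sup_right (sup_le ?_ le_normalizer)
    refine le_trans ?_ (centralizer_le_normalizer _)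
    rintro _ ⟨f, hf, rfl⟩
    rw [mem_centralizer_iff]
    rintro _ ⟨n, rfl⟩
    have h1 : Commute β (MulAut.conj f) := by
      show β * MulAut.conj f = MulAut.conj f * β
      rw [conj_mul_eq, hFβ f hf]
    exact (h1.zpow_left n).eq
  have s2 : Sn W (centralizer ({α} : Set (MulAut X)) ⊓ A) := by
    refine Sn.of_normal hWC ?_
    have key : ∀ c ∈ centralizer ({α} : Set (MulAut X)) ⊓ A, W ≤ W.comap (MulAut.conj c).toMonoidHom := by
      intro c hc'
      obtain ⟨x, hx, k, hk, rfl⟩ := hdec c hc'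
      refine sup_le ?_ ?_
      · rintro _ ⟨f, hf, rfl⟩
        rw [mem_comap]
        have h1 : (MulAut.conj (MulAut.conj x * k)).toMonoidHom (MulAut.conj f) = MulAut.conj (x * f * x⁻¹) := by
          show MulAut.conj x * k * MulAut.conj f * (MulAut.conj x * k)⁻¹ = _
          rw [mul_assoc (MulAut.conj x), conj_mul_eq, hKF k hk f hf, map_mul, map_mul, map_inv]
          group
        rw [h1]
        exact mem_sup_left ⟨_, hFn x hx f hf, rfl⟩
      · rw [zpowers_le, mem_comap]
        have h1 : (MulAut.conj (MulAut.conj x * k)).toMonoidHom β = MulAut.conj (x * (β x)⁻¹) * β := by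
          show MulAut.conj x * k * β * (MulAut.conj x * k)⁻¹ = _
          have h2 : β * (MulAut.conj x)⁻¹ = (MulAut.conj (β x))⁻¹ * β := by
            rw [eq_inv_mul_iff_mul_eq, ← mul_assoc, ← conj_mul_eq, mul_inv_cancel_right]
          rw [mul_assoc (MulAut.conj x), hKb k hk, mul_inv_rev, map_mul, map_inv]
          calc MulAut.conj x * (β * k) * (k⁻¹ * (MulAut.conj x)⁻¹) = MulAut.conj x * (β * (MulAut.conj x)⁻¹) := by group
            _ = MulAut.conj x * (MulAut.conj (β x))⁻¹ * β := by rw [h2]; group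
        rw [h1]
        exact mul_mem (mem_sup_left ⟨_, hFx x hx, rfl⟩) (mem_sup_right (mem_zpowers β))
    intro c hc'
    rw [Cit.mem_normalizer_iff_cj]
    apply le_antisymm
    · rw [Cit.cj_def, map_le_iff_le_comap]
      exact key c hc'
    · intro y hy
      rw [Cit.mem_cj]
      have h1 := key c⁻¹ (inv_mem hc') hy
      rw [mem_comap] at h1
      have h2 : (MulAut.conj c⁻¹).toMonoidHom y = c⁻¹ * y * c := by
        show c⁻¹ * y * c⁻¹⁻¹ = _
        rw [inv_inv]
      rwa [h2] at h1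
  have s3 := (s1.trans s2).comap A.subtype
  -- `F*(A)`
  have hα' : orderOf (⟨α, hαA⟩ : ↥A) = 2 := by
    refine orderOf_eq_prime ?_ ?_
    · rw [pow_two]; exact Subtype.ext hα
    · intro h; exact hα1 (congrArg Subtype.val h)
  let e1 : X ≃* ↥I := MulEquiv.ofBijective (MulAut.conj : X →* MulAut X).rangeRestrict
    ⟨fun a b h => hinj (congrArg Subtype.val h), MonoidHom.rangeRestrict_surjective _⟩
  let e2 : ↥I ≃* ↥(I.subgroupOf A) := (subgroupOfEquivOfLe hIA).symm
  have hIAn : (I.subgroupOf A).Normal := inferInstance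
  haveI hsI : IsSimpleGroup ↥(I.subgroupOf A) := by
    haveI := hs
    exact (e1.trans e2).symm.isSimpleGroup
  have hnaI : ¬ IsMulCommutative ↥(I.subgroupOf A) := by
    intro h
    apply hna
    refine ⟨⟨fun a b => ?_⟩⟩
    apply (e1.trans e2).injective
    rw [map_mul, map_mul]
    exact h.is_comm.comm _ _
  have hcen : centralizer ((I.subgroupOf A : Subgroup ↥A) : Set ↥A) = ⊥ := by
    rw [eq_bot_iff]
    intro g hg
    rw [mem_bot]
    apply Subtype.ext
    show (g : MulAut X) = 1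
    ext x
    rw [MulAut.one_apply]
    have h1 := mem_centralizer_iff.1 hg ⟨MulAut.conj x, hIA ⟨x, rfl⟩⟩ (show MulAut.conj x ∈ I from ⟨x, rfl⟩)
    have h2 : MulAut.conj x * (g : MulAut X) = g * MulAut.conj x := congrArg Subtype.val h1
    rw [conj_mul_eq] at h2
    exact (hinj (mul_right_cancel h2)).symm
  have hF := genFit_eq hIAn hsI hnaI hcen
  -- the core
  have hcore : centralizerPPrimeCore 2 (⟨α, hαA⟩ : ↥A) ≠ ⊥ := by
    intro h
    have h0 := (Subgroup.map_eq_bot_iff_of_injective _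
      (centralizer ({(⟨α, hαA⟩ : ↥A)} : Set ↥A)).subtype_injective).1 h
    have h2 : (centralizer ({α} : Set (MulAut X)) ⊓ A).comap A.subtype =
        centralizer ({(⟨α, hαA⟩ : ↥A)} : Set ↥A) := by
      ext x
      rw [mem_comap, mem_inf]
      simp only [coe_subtype, mem_centralizer_singleton_iff]
      constructor
      · rintro ⟨h3, -⟩
        exact Subtype.ext h3
      · intro h3
        exact ⟨congrArg Subtype.val h3, x.2⟩
    rw [h2] at s3
    have h3 := CompBasic.subnormal_coprime_le_pPrimeCore (p := 2) s3.2 ?_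
    · rw [h0, le_bot_iff] at h3
      have hβC : (⟨β, hβA⟩ : ↥A) ∈ centralizer ({(⟨α, hαA⟩ : ↥A)} : Set ↥A) :=
        mem_centralizer_singleton_iff.2 (Subtype.ext hc.symm)
      have h4 : (⟨⟨β, hβA⟩, hβC⟩ : ↥(centralizer ({(⟨α, hαA⟩ : ↥A)} : Set ↥A))) ∈
          ((zpowers β).comap A.subtype).subgroupOf (centralizer ({(⟨α, hαA⟩ : ↥A)} : Set ↥A)) := mem_zpowers β
      rw [h3, mem_bot] at h4
      exact hβ1 (congrArg Subtype.val (congrArg Subtype.val h4))
    · have h5 : Nat.card (((zpowers β).comap A.subtype).subgroupOf (centralizer ({(⟨α, hαA⟩ : ↥A)} : Set ↥A))) ∣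
          Nat.card (zpowers β) := by
        refine (Subgroup.card_comap_dvd_of_injective _ _ (subtype_injective _)).trans ?_
        exact Subgroup.card_comap_dvd_of_injective _ _ (subtype_injective _)
      rw [Nat.card_zpowers] at h5
      exact Nat.Coprime.of_dvd_left h5 ((Nat.coprime_two_right).2 (odd_of_cube hβ))
  -- conclusion
  have hs' : IsSimpleGroup ↥(generalizedFittingSubgroup ↥A) := by rw [hF]; exact hsI
  have hna' : ¬ IsMulCommutative ↥(generalizedFittingSubgroup ↥A) := by rw [hF]; exact hnaI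
  have h5 : IsUnb ↥(generalizedFittingSubgroup ↥A) := h1311 hs' hna' ⟨α, hαA⟩ hα' hcore
  exact h5.congr ((MulEquiv.subgroupCongr hF).trans (e1.trans e2).symm)

end

section

open Cfsg.Agent.OddHalf.NI.Ex (bar bar_mk bar_mul bar_one eq_one_of_bar)

variable {L : Type u} [Group L] [Finite L]

/-- **S1311 for quasisimple groups.** -/
theorem unbQ (h1311 : Stmts.P1311.{u}) (hq : IsQuasisimple L) {α β : MulAut L} (hα : α * α = 1)
    (hβ : β * β * β = 1) (hβ1 : β ≠ 1) (hc : α * β = β * α) (hf : ∀ x, α x = x → β x = x)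
    (hz : ∀ x ∈ center L, β x = x) : IsUnb (L ⧸ center L) := by
  have hp : commutator L = ⊤ := hq.1.commutator_eq_top
  have hmk : ∀ x y : L, (x : L ⧸ center L) = (y : L ⧸ center L) → ∃ ζ ∈ center L, x * ζ = y := by
    intro x y h
    exact ⟨x⁻¹ * y, QuotientGroup.eq.1 h, by group⟩
  have key : ∀ l ζ : L, ζ ∈ center L → α l = l * ζ → ∀ f, α f = f → α (l * f * l⁻¹) = l * f * l⁻¹ := by
    intro l ζ hζ hl f hf'
    rw [map_mul, map_mul, map_inv, hl, hf']
    have h1 : ζ * f = f * ζ := (mem_center_iff.1 hζ f).symm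
    calc l * ζ * f * (l * ζ)⁻¹ = l * (ζ * f) * ζ⁻¹ * l⁻¹ := by group
      _ = l * f * l⁻¹ := by rw [h1]; group
  refine unb h1311 hq.2 (Soft.quo_na hq) (α := bar α) (β := bar β) ?_ ?_ ?_ ?_ ?_
    ((fix α).map (QuotientGroup.mk' (center L))) ?_ ?_ ?_ ?_
  · rw [← bar_mul, hα, bar_one]
  · intro h
    have h1 := eq_one_of_bar hp h
    apply hβ1
    ext x
    exact hf x (by rw [h1, MulAut.one_apply])
  · rw [← bar_mul, ← bar_mul, hβ, bar_one]
  · exact fun h => hβ1 (eq_one_of_bar hp h)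
  · rw [← bar_mul, ← bar_mul, hc]
  · intro x hx
    obtain ⟨l, rfl⟩ := QuotientGroup.mk_surjective x
    rintro _ ⟨f, hf', rfl⟩
    rw [bar_mk] at hx
    obtain ⟨ζ, hζ, h1⟩ := hmk _ _ hx.symm
    exact ⟨l * f * l⁻¹, key l ζ hζ h1.symm f hf', rfl⟩
  · rintro _ ⟨f, hf', rfl⟩
    show bar β (f : L ⧸ center L) = (f : L ⧸ center L)
    rw [bar_mk, hf f hf']
  · rintro _ ⟨f, hf', rfl⟩
    show bar α (f : L ⧸ center L) = (f : L ⧸ center L)
    rw [bar_mk, show α f = f from hf']
  · intro x hx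
    obtain ⟨l, rfl⟩ := QuotientGroup.mk_surjective x
    rw [bar_mk] at hx
    obtain ⟨ζ, hζ, h1⟩ := hmk _ _ hx.symm
    refine ⟨l * (β l)⁻¹, ?_, rfl⟩
    show α (l * (β l)⁻¹) = l * (β l)⁻¹
    have h2 : α (β l) = β l * ζ := by
      have h3 : α (β l) = β (α l) := DFunLike.congr_fun hc l
      rw [h3, ← h1, map_mul, hz ζ hζ]
    rw [map_mul, map_inv, h2, ← h1]
    have h4 : ζ * (β l)⁻¹ = (β l)⁻¹ * ζ := (mem_center_iff.1 hζ _).symm
    calc l * ζ * (β l * ζ)⁻¹ = l * (ζ * ζ⁻¹) * (β l)⁻¹ := by group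
      _ = l * (β l)⁻¹ := by group

end

end Cfsg.Agent.OddHalf.NI3.Bad.Unb
end

-- part: OddHalf/D4/Spor/HeSheet
section
set_option linter.all false
open scoped Cfsg.Agent.FastGrp

-- part: OddHalf/D4/Spor/HeOf
section
/-!
# ODD half, D4: the fact sheet of the Held group from its two classes of involutions (helper40)

`TwoA v V L` : the centralizer of `v` is `L.2`, `L` perfect with centre a four-group `V`, `L / V` simple, `C(L) = V`.
`sheet_of` : `Spor.Sheet X` from the basic sheet of D8 for `z`, `O(C(z)) = 1`, `TwoA v V L`, every involution is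
conjugate to `z` or to `v`, `L` contains a conjugate of `z`, automorphisms centralizing `L` are inner.
-/

set_option autoImplicit false

namespace Cfsg.Agent.OddHalf.D4.Spor.HeOf

open Subgroup Cfsg.Agent.OddHalf.D8 Cfsg.Agent.OddHalf.D4.Spor
open scoped commutatorElement

variable {X : Type*} [Group X]

/-- the centralizer of `v` is `L.2`, `L` perfect with centre the four-group `V`, `L / V` simple, `C(L) = V`,
some element of `C(v)` does not centralize `V` -/
structure TwoA (v : X) (V L : Subgroup X) : Prop where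
  vv : v * v = 1
  v1 : v ≠ 1
  vV : v ∈ V
  cardV : Nat.card V = 4
  VL : V ≤ L
  comm : ∀ l ∈ L, ∀ x ∈ V, l * x = x * l
  perf : ⁅L, L⁆ = L
  cen : ∀ x : X, (∀ l ∈ L, x * l = l * x) → x ∈ V
  norm : ∀ c : X, c * v = v * c → ∀ l ∈ L, c * l * c⁻¹ ∈ L
  two : ∀ c d : X, c * v = v * c → d * v = v * d → c ∈ L ∨ d ∈ L ∨ c * d ∈ L
  simp : ∀ N : Subgroup X, N ≤ L → (∀ l ∈ L, ∀ n ∈ N, l * n * l⁻¹ ∈ N) → N ≤ V ∨ N = L
  swap : ∃ x ∈ V, ∃ c : X, c * v = v * c ∧ c * x * c⁻¹ * x⁻¹ = v

/-- an endomorphism acting on the perfect group `L` trivially modulo `V`, `[L,V] = 1`, is trivial on `L` -/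
theorem eq_of_central {L V : Subgroup X} (perf : ⁅L, L⁆ = L) (hV : ∀ x ∈ V, ∀ y ∈ V, x * y = y * x)
    (hL : ∀ l ∈ L, ∀ x ∈ V, l * x = x * l) (α : X →* X) (h : ∀ l ∈ L, α l * l⁻¹ ∈ V) :
    ∀ l ∈ L, α l = l := by
  have key : ⁅L, L⁆ ≤ α.eqLocus (MonoidHom.id X) := by
    rw [commutator_le]
    intro a ha b hb
    show α ⁅a, b⁆ = ⁅a, b⁆
    obtain ⟨u, hu⟩ : ∃ u, u = α a * a⁻¹ := ⟨_, rfl⟩
    obtain ⟨w, hw⟩ : ∃ w, w = α b * b⁻¹ := ⟨_, rfl⟩
    have hu1 : u ∈ V := hu ▸ h a ha
    have hw1 : w ∈ V := hw ▸ h b hb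
    have eu : α a = u * a := by rw [hu, inv_mul_cancel_right]
    have ew : α b = w * b := by rw [hw, inv_mul_cancel_right]
    have c1 : Commute u w := hV u hu1 w hw1
    have c2 : Commute a u := hL a ha u hu1
    have c3 : Commute b u := hL b hb u hu1
    have c4 : Commute a w := hL a ha w hw1
    have c5 : Commute b w := hL b hb w hw1
    rw [map_commutatorElement, eu, ew, commutatorElement_def, commutatorElement_def]
    calc u * a * (w * b) * (u * a)⁻¹ * (w * b)⁻¹
        = u * (a * w) * b * a⁻¹ * u⁻¹ * b⁻¹ * w⁻¹ := by group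
      _ = u * (w * a) * b * a⁻¹ * u⁻¹ * b⁻¹ * w⁻¹ := by rw [c4.eq]
      _ = (u * w) * (a * b * a⁻¹ * u⁻¹ * b⁻¹) * w⁻¹ := by group
      _ = (w * u) * (a * b * a⁻¹ * u⁻¹ * b⁻¹) * w⁻¹ := by rw [c1.eq]
      _ = w * (u * (a * b * a⁻¹) * u⁻¹) * b⁻¹ * w⁻¹ := by group
      _ = w * (a * b * a⁻¹) * b⁻¹ * w⁻¹ := by
          have c6 : Commute u (a * b * a⁻¹) := (c2.symm.mul_right c3.symm).mul_right c2.symm.inv_right
          rw [c6.eq, mul_inv_cancel_right]
      _ = w * (a * b * a⁻¹ * b⁻¹) * w⁻¹ := by group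
      _ = a * b * a⁻¹ * b⁻¹ := by
          have c7 : Commute w (a * b * a⁻¹ * b⁻¹) :=
            (((c4.symm.mul_right c5.symm).mul_right c4.symm.inv_right).mul_right c5.symm.inv_right)
          rw [c7.eq, mul_inv_cancel_right]
  intro l hl
  rw [perf] at key
  exact key hl

theorem commV {v : X} {V L : Subgroup X} (h : TwoA v V L) : ∀ x ∈ V, ∀ y ∈ V, x * y = y * x :=
  fun x hx y hy => h.comm x (h.VL hx) y hy

/-- the normal subgroups of `C(v)` -/
theorem normal_cases {v : X} {V L : Subgroup X} (h : TwoA v V L) {N : Subgroup X}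
    (hle : ∀ n ∈ N, n * v = v * n) (hN : ∀ c : X, c * v = v * c → ∀ n ∈ N, c * n * c⁻¹ ∈ N) :
    N ≤ V ∨ L ≤ N := by
  have hLc : ∀ l ∈ L, l * v = v * l := fun l hl => h.comm l hl v h.vV
  rcases h.simp (N ⊓ L) inf_le_right (fun l hl n hn =>
    mem_inf.2 ⟨hN l (hLc l hl) n (mem_inf.1 hn).1, mul_mem (mul_mem hl (mem_inf.1 hn).2) (inv_mem hl)⟩) with h1 | h1
  · left
    intro n hn
    apply h.cen
    have h2 := eq_of_central h.perf (commV h) h.comm (MulAut.conj n).toMonoidHom (fun l hl => by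
      apply h1
      have e1 : n * l * n⁻¹ ∈ L := h.norm n (hle n hn) l hl
      have e2 : l * n⁻¹ * l⁻¹ ∈ N := hN l (hLc l hl) _ (inv_mem hn)
      have e3 := mul_mem hn e2
      have e4 : n * (l * n⁻¹ * l⁻¹) = n * l * n⁻¹ * l⁻¹ := by group
      rw [e4] at e3
      exact mem_inf.2 ⟨e3, mul_mem e1 (inv_mem hl)⟩)
    intro l hl
    have h3 : n * l * n⁻¹ = l := h2 l hl
    calc n * l = n * l * n⁻¹ * n := by group
      _ = l * n := by rw [h3]
  · right
    rw [← h1]
    exact inf_le_left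

/-- transport along an automorphism -/
theorem TwoA.map {v : X} {V L : Subgroup X} (h : TwoA v V L) (e : MulAut X) :
    TwoA (e v) (V.map e.toMonoidHom) (L.map e.toMonoidHom) := by
  have hs : ∀ x : X, e (e.symm x) = x := e.apply_symm_apply
  have hc : ∀ c x : X, c * e x = e x * c → e.symm c * x = x * e.symm c := by
    intro c x hc
    apply e.injective
    rw [map_mul, map_mul, hs, hc]
  refine ⟨?_, ?_, ⟨v, h.vV, rfl⟩, ?_, map_mono h.VL, ?_, ?_, ?_, ?_, ?_, ?_, ?_⟩
  · rw [← map_mul, h.vv, map_one]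
  · intro h1
    exact h.v1 (e.injective (by rw [h1, map_one]))
  · rw [← h.cardV]
    exact Nat.card_congr (V.equivMapOfInjective e.toMonoidHom e.injective).symm.toEquiv
  · rintro _ ⟨l, hl, rfl⟩ _ ⟨x, hx, rfl⟩
    show e l * e x = e x * e l
    rw [← map_mul, h.comm l hl x hx, map_mul]
  · rw [← map_commutator, h.perf]
  · intro x hx
    refine ⟨e.symm x, h.cen _ fun l hl => ?_, hs x⟩
    exact hc x l (hx (e l) ⟨l, hl, rfl⟩)
  · rintro c hcv _ ⟨l, hl, rfl⟩
    refine ⟨e.symm c * l * (e.symm c)⁻¹, h.norm _ (hc c v hcv) l hl, ?_⟩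
    show e (e.symm c * l * (e.symm c)⁻¹) = c * e l * c⁻¹
    rw [map_mul, map_mul, map_inv, hs]
  · intro c d hcv hdv
    rcases h.two _ _ (hc c v hcv) (hc d v hdv) with h1 | h1 | h1
    · exact Or.inl ⟨_, h1, hs c⟩
    · exact Or.inr (Or.inl ⟨_, h1, hs d⟩)
    · refine Or.inr (Or.inr ⟨_, h1, ?_⟩)
      show e (e.symm c * e.symm d) = c * d
      rw [map_mul, hs, hs]
  · intro N hN hn
    have h1 := h.simp (N.comap e.toMonoidHom) (by
      intro x hx
      obtain ⟨l, hl, hlx⟩ := hN hx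
      rwa [← e.injective hlx]) (by
      intro l hl n hn'
      have := hn (e l) ⟨l, hl, rfl⟩ (e n) hn'
      show e (l * n * l⁻¹) ∈ N
      rwa [map_mul, map_mul, map_inv])
    have h2 : (N.comap e.toMonoidHom).map e.toMonoidHom = N :=
      map_comap_eq_self_of_surjective e.surjective N
    rcases h1 with h1 | h1
    · left
      rw [← h2]
      exact map_mono h1
    · right
      rw [← h2, h1]
  · obtain ⟨x, hx, c, hcv, hcx⟩ := h.swap
    refine ⟨e x, ⟨x, hx, rfl⟩, e c, ?_, ?_⟩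
    · rw [← map_mul, hcv, map_mul]
    · rw [← map_mul, ← map_inv, ← map_inv, ← map_mul, ← map_mul, hcx]

theorem comm_mem {v : X} {V L : Subgroup X} (h : TwoA v V L) {c d : X} (hc : c * v = v * c)
    (hd : d * v = v * d) : ⁅c, d⁆ ∈ L := by
  rw [commutatorElement_def]
  have hc' : c⁻¹ * v = v * c⁻¹ := (Commute.inv_left (show Commute c v from hc)).eq
  rcases h.two c d hc hd with h1 | h1 | h1
  · have := mul_mem h1 (h.norm d hd _ (inv_mem h1))
    convert this using 1
    group
  · exact mul_mem (h.norm c hc d h1) (inv_mem h1)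
  · rcases h.two d c hd hc with h2 | h2 | h2
    · exact mul_mem (h.norm c hc d h2) (inv_mem h2)
    · have := mul_mem h2 (h.norm d hd _ (inv_mem h2))
      convert this using 1
      group
    · have := mul_mem h1 (inv_mem h2)
      convert this using 1
      group

/-- the facts about `V`, `L` -/
theorem vfacts {v : X} {V L : Subgroup X} (h : TwoA v V L) : VFacts V L where
  comm := commV h
  perf := h.perf
  cent := h.comm
  max := by
    intro P hP hPV
    rw [← hP, commutator_le]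
    intro c hc d hd
    exact comm_mem h (hPV c hc v h.vV) (hPV d hd v h.vV)
  kill := by
    left
    obtain ⟨x, hx, c, hc, hcx⟩ := h.swap
    exact ⟨v, h.vV, h.v1, h.VL h.vV, x, hx, c, hc, hcx⟩

/-- no non-trivial normal subgroup of odd order -/
theorem bal_v {v : X} {V L : Subgroup X} (h : TwoA v V L) (I : Subgroup X) (h1 : ∀ i ∈ I, i * v = v * i)
    (h2 : ∀ c : X, c * v = v * c → ∀ i ∈ I, c * i * c⁻¹ ∈ I) (h3 : Odd (Nat.card ↥I)) : I = ⊥ := by
  rcases normal_cases h h1 h2 with h4 | h4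
  · have h5 := card_dvd_of_le h4
    rw [h.cardV] at h5
    have h6 : Nat.card I = 1 := by
      have h7 : Nat.Coprime (Nat.card I) (2 ^ 2) := Nat.Coprime.pow_right 2 h3.coprime_two_right
      exact Nat.Coprime.eq_one_of_dvd h7 h5
    exact (card_eq_one).1 h6
  · exfalso
    have h5 : v ∈ I := h4 (h.VL h.vV)
    have h6 : orderOf v = 2 := orderOf_eq_prime (by rw [pow_two, h.vv]) h.v1
    have h7 : orderOf v ∣ Nat.card I := by
      have := orderOf_dvd_natCard (⟨v, h5⟩ : I)
      rwa [Subgroup.orderOf_mk] at this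
    rw [h6] at h7
    obtain ⟨k, hk⟩ := h3
    omega

/-- **The fact sheet of D4**, for a group with two classes of involutions, `z` and `v`, `C(v)` as in `TwoA`. -/
theorem sheet_of [Finite X] {z v : X} {P V L : Subgroup X} (hB : Sheet.Basic z P) (h : TwoA v V L)
    (hbal : ∀ I : Subgroup X, (∀ i ∈ I, i * z = z * i) →
      (∀ c : X, c * z = z * c → ∀ i ∈ I, c * i * c⁻¹ ∈ I) → Odd (Nat.card ↥I) → I = ⊥)
    (hcl : ∀ w : X, w * w = 1 → w ≠ 1 → (∃ g : X, g * z * g⁻¹ = w) ∨ ∃ g : X, g * v * g⁻¹ = w)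
    (hzL : ∃ g : X, g * z * g⁻¹ ∈ L)
    (haut : ∀ α : MulAut X, (∀ l ∈ L, α l = l) → Inn α) : Spor.Sheet X := by
  have hcen : ∀ w : X, w * w = 1 → w ≠ 1 → ¬ Cen w → ∃ g : X, g * v * g⁻¹ = w := by
    intro w h1 h2 h3
    rcases hcl w h1 h2 with ⟨g, hg⟩ | h4
    · exact absurd (cen_conj hg (cen_z hB)) h3
    · exact h4
  have hz1 : z * z = 1 := hB.zz
  refine Sheet.of_basic_tab hB ?_ ?_ ?_
  · intro a h1 h2
    rcases hcl a h1 h2 with ⟨g, hg⟩ | ⟨g, hg⟩
    · exact bal_of_one hbal hg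
    · exact bal_of_one (bal_v h) hg
  · intro α hα _ w h1 h2 h3 h4 h5 _ _ _ _ _
    obtain ⟨g, hg⟩ := hcen w h1 h2 h3
    have hw := h.map (MulAut.conj g)
    have ew : MulAut.conj g v = w := by rw [MulAut.conj_apply, hg]
    rw [ew] at hw
    -- `α` is trivial on the conjugate of `L`
    have k1 : ∀ l ∈ L.map (MulAut.conj g).toMonoidHom, α l = l := by
      have hwV : ∀ x ∈ zpowers w, x = 1 ∨ x = w := by
        rintro x ⟨n, rfl⟩
        rcases Int.even_or_odd' n with ⟨m, rfl | rfl⟩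
        · left
          show w ^ (2 * m) = 1
          rw [zpow_mul, zpow_ofNat, pow_two, h1, one_zpow]
        · right
          show w ^ (2 * m + 1) = w
          rw [zpow_add, zpow_mul, zpow_ofNat, pow_two, h1, one_zpow, one_mul, zpow_one]
      refine eq_of_central (V := zpowers w) hw.perf ?_ ?_ α.toMonoidHom ?_
      · intro x hx y hy
        rcases hwV x hx with rfl | rfl <;> rcases hwV y hy with rfl | rfl <;> simp
      · intro l hl x hx
        rcases hwV x hx with rfl | rfl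
        · simp
        · exact hw.comm l hl x hw.vV
      · intro l hl
        have hlw := hw.comm l hl w hw.vV
        show α l * l⁻¹ ∈ zpowers w
        rcases h5 l hlw with h6 | h6
        · rw [h6, mul_inv_cancel]; exact one_mem _
        · rw [h6, mul_inv_cancel_right]; exact mem_zpowers w
    obtain ⟨k, hk⟩ := haut ((MulAut.conj g)⁻¹ * α * MulAut.conj g) (by
      intro l hl
      show (MulAut.conj g)⁻¹ (α (MulAut.conj g l)) = l
      have e1 : α (MulAut.conj g l) = MulAut.conj g l := k1 _ ⟨l, hl, rfl⟩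
      rw [e1]
      exact MulEquiv.symm_apply_apply _ _)
    apply hα
    refine ⟨g * k * g⁻¹, ?_⟩
    have : α = MulAut.conj g * ((MulAut.conj g)⁻¹ * α * MulAut.conj g) * (MulAut.conj g)⁻¹ := by group
    rw [this, hk, ← map_mul, ← map_inv, ← map_mul]
  · apply tab_of_elt
    intro w N hN V' hV'N _ _ _ _ h4
    obtain ⟨g, hg⟩ := hcen w hN.sq hN.ne (hN.non w hN.mem hN.sq hN.ne)
    have hw := h.map (MulAut.conj g)
    have ew : MulAut.conj g v = w := by rw [MulAut.conj_apply, hg]
    rw [ew] at hw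
    rcases normal_cases hw hN.le hN.norm with h5 | h5
    · have h6 : V' = V.map (MulAut.conj g).toMonoidHom := by
        apply eq_of_le_of_card_ge (hV'N.trans h5)
        rw [hw.cardV]
        exact Nat.le_of_dvd Nat.card_pos h4
      rw [h6]
      exact ⟨_, vfacts hw⟩
    · exfalso
      obtain ⟨y, hy⟩ := hzL
      have h6 : g * (y * z * y⁻¹) * g⁻¹ ∈ N := h5 ⟨_, hy, rfl⟩
      have h7 : (g * y) * z * (g * y)⁻¹ = g * (y * z * y⁻¹) * g⁻¹ := by group
      refine hN.non _ h6 ?_ ?_ (cen_conj h7 (cen_z hB))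
      · rw [← h7]
        calc g * y * z * (g * y)⁻¹ * (g * y * z * (g * y)⁻¹) = g * y * (z * z) * (g * y)⁻¹ := by group
          _ = 1 := by rw [hz1]; group
      · rw [← h7]
        intro h8
        apply hB.z1
        calc z = (g * y)⁻¹ * (g * y * z * (g * y)⁻¹) * (g * y) := by group
          _ = 1 := by rw [h8]; group

end Cfsg.Agent.OddHalf.D4.Spor.HeOf
end

-- part: OddHalf/D4/Spor/HeSheet
section
/-!
# ODD half, D4: the fact sheet of the Held group, from the Schreier property (helper40)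
-/

set_option autoImplicit false

namespace Cfsg.Agent.OddHalf.D4.Spor.HeSheet

open Subgroup Cfsg.Agent.OddHalf.D8 Cfsg.Agent.OddHalf.D4.Spor Cfsg.Agent.OddHalf.D4.Spor.HeOf
  Cfsg.Agent.SporadicRecognition.HeldModel

/-- no non-trivial normal subgroup of odd order in `2^{1+6}:L3(2)` -/
theorem bal_of_sheet {G : Type*} [Group G] {z : G} {P R E E' : Subgroup G}
    (h : KFacts.TwoSix.SheetDef.Sheet z P R E E') (hP : ∀ x : G, x * z = z * x → x ∈ P) :
    ∀ I : Subgroup G, (∀ i ∈ I, i * z = z * i) →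
      (∀ c : G, c * z = z * c → ∀ i ∈ I, c * i * c⁻¹ ∈ I) → Odd (Nat.card ↥I) → I = ⊥ := by
  intro I h1 h2 h3
  have hcop : Nat.Coprime (Nat.card I) (Nat.card R) := by
    rw [h.cardR]
    exact Nat.Coprime.pow_right 7 h3.coprime_two_right
  have hRI : ∀ x : G, x ∈ R → x ∈ I → x = 1 := fun x hx hxI =>
    (Subgroup.disjoint_def.1 (Subgroup.disjoint_of_coprime_natCard hcop)) hxI hx
  rw [eq_bot_iff]
  intro x hx
  have hxP : x ∈ P := hP x (h1 x hx)
  have hc : ∀ r ∈ R, x * r = r * x := by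
    intro r hr
    have a1 : x * r * x⁻¹ * r⁻¹ ∈ R := mul_mem (h.norR x hxP r hr) (inv_mem hr)
    have a2 : x * r * x⁻¹ * r⁻¹ ∈ I := by
      have := mul_mem hx (h2 r (h.cz r (h.RP hr)) x⁻¹ (inv_mem hx))
      convert this using 1
      group
    calc x * r = (x * r * x⁻¹ * r⁻¹) * r * x := by group
      _ = r * x := by rw [hRI _ a1 a2, one_mul]
  rw [mem_bot]
  rcases h.cR x hxP hc with e | e
  · exact e
  · exact hRI x (by rw [e]; exact h.h1.ER h.h1.zE) hx

theorem bal_of_hyp {G : Type*} [Group G] {z : G} {ι : CC →* G} (h : Hyp z ι) :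
    ∀ I : Subgroup G, (∀ i ∈ I, i * z = z * i) →
      (∀ c : G, c * z = z * c → ∀ i ∈ I, c * i * c⁻¹ ∈ I) → Odd (Nat.card ↥I) → I = ⊥ := by
  have h1 := KFacts.TwoSix.Sheet.sheet_of h.inj
  rw [h.map_zz] at h1
  exact bal_of_sheet h1 fun x hx => (UT5.KBasic.mem_range h).2 hx

open Cfsg.Agent.KFacts.He.Lv Cfsg.Agent.KFacts.He.TwoACent in
/-- the centralizer of the generator `a` -/
theorem twoA : TwoA (gn .a) KFacts.He.TwoACent.V KFacts.He.TwoACent.L where
  vv := gn_mul_self .a
  v1 := a_ne_one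
  vV := a_mem_V
  cardV := card_V
  VL := V_le_L
  comm := fun l hl x hx => mem_V.1 hx l hl
  perf := perf
  cen := fun x hx => mem_V.2 fun l hl => (hx l hl).symm
  norm := fun c hc l hl => norm hc hl
  two := fun c d hc hd => two hc hd
  simp := fun N hN hn => KFacts.He.TwoA.normal_cases hN hn
  swap := ⟨v, v_mem_V, s, s_comm_a, s_conj_v⟩

/-- the sheet of the Held group, from the Schreier property -/
theorem sheet_of_sch (hs : Schreier.Basic.Sch Cfsg.Spor.He) : Spor.Sheet Cfsg.Spor.He := by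
  have := KFacts.He.Cent.simpleHe
  have := KFacts.He.Hyp.finHe
  refine sheet_of (UT5.KBasic.basic KFacts.He.Hyp.hyp hs) twoA (bal_of_hyp KFacts.He.Hyp.hyp)
    (fun w h1 h2 => KFacts.He.Classes.two_classes_a h1 h2) ?_ ?_
  · obtain ⟨g, hg⟩ := KFacts.He.Classes.z_d
    exact ⟨g, by rw [hg]; exact KFacts.He.TwoACent.gn_mem_L (by simp)⟩
  · intro α hα
    obtain ⟨k, -, hk⟩ := KFacts.He.TwoAAut.aut_eq (α := α) hα
    exact ⟨k, MulEquiv.ext fun x => by rw [hk, MulAut.conj_apply]⟩

end Cfsg.Agent.OddHalf.D4.Spor.HeSheet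
end
end
end
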